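/-
Bit codes for linear maps of elementary abelian 2-groups: a map is the list of the images of the
basis vectors, vectors are natural numbers read in binary.
-/
import Mathlib

set_option autoImplicit false

namespace H61.U6M

/-- Apply a list of columns to a bit vector. -/
def app : List ℕ → ℕ → ℕ
  | [], _ => 0
  | c :: cs, x => (if x % 2 = 1 then c else 0) ^^^ app cs (x / 2)

/-- The combination of a list of vectors given by a bit vector. -/
def comb {V : Type*} [AddZeroClass V] : List V → ℕ → V
  | [], _ => 0
  | c :: cs, x => (if x % 2 = 1 then c else 0) + comb cs (x / 2)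

theorem xor_mod_two' (x y : ℕ) :
    ((x ^^^ y) % 2 = 1) ↔ ¬ (x % 2 = 1 ↔ y % 2 = 1) := by
  have h := Nat.testBit_xor x y 0
  simp only [Nat.testBit_zero] at h
  rcases Nat.mod_two_eq_zero_or_one x with hx | hx <;>
    rcases Nat.mod_two_eq_zero_or_one y with hy | hy <;> simp_all

theorem app_xor (M : List ℕ) : ∀ x y, app M (x ^^^ y) = app M x ^^^ app M y := by
  induction M with
  | nil => intros; simp [app]
  | cons c cs ih =>
    intro x y
    have hd : (x ^^^ y) / 2 = x / 2 ^^^ y / 2 := by
      simpa [Nat.shiftRight_eq_div_pow] using Nat.shiftRight_xor_distrib (a := x) (b := y) (i := 1)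
    simp only [app, hd, ih, xor_mod_two']
    by_cases hx : x % 2 = 1 <;> by_cases hy : y % 2 = 1 <;>
      simp [hx, hy, Nat.xor_assoc, Nat.xor_left_comm]

theorem app_zero (M : List ℕ) : app M 0 = 0 := by
  induction M with
  | nil => rfl
  | cons c cs ih => simp [app, ih]

theorem app_lt {n : ℕ} (M : List ℕ) (h : ∀ c ∈ M, c < 2 ^ n) : ∀ x, app M x < 2 ^ n := by
  induction M with
  | nil => intro x; simp [app]
  | cons c cs ih =>
    intro x
    simp only [app]
    refine Nat.xor_lt_two_pow ?_ (ih (fun c hc => h c (List.mem_cons_of_mem _ hc)) _)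
    split
    · exact h c (List.mem_cons_self ..)
    · exact Nat.two_pow_pos n

section Comb

variable {V : Type*} [AddCommGroup V]

theorem comb_zero (L : List V) : comb L 0 = 0 := by
  induction L with
  | nil => rfl
  | cons c cs ih => simp [comb, ih]

theorem comb_xor (h2 : ∀ v : V, v + v = 0) (L : List V) :
    ∀ x y, comb L (x ^^^ y) = comb L x + comb L y := by
  induction L with
  | nil => intros; simp [comb]
  | cons c cs ih =>
    intro x y
    have hd : (x ^^^ y) / 2 = x / 2 ^^^ y / 2 := by
      simpa [Nat.shiftRight_eq_div_pow] using Nat.shiftRight_xor_distrib (a := x) (b := y) (i := 1)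
    simp only [comb, hd, ih]
    by_cases hx : x % 2 = 1 <;> by_cases hy : y % 2 = 1 <;> simp only [xor_mod_two', hx, hy] <;>
      simp
    · rw [add_add_add_comm, h2, zero_add]
    · abel
    · abel

theorem map_comb {W : Type*} [AddCommGroup W] (f : V →+ W) (L : List V) :
    ∀ x, f (comb L x) = comb (L.map f) x := by
  induction L with
  | nil => intros; simp [comb]
  | cons c cs ih =>
    intro x
    simp only [comb, List.map_cons, map_add, ih]
    congr 1
    split <;> simp

theorem comb_app (h2 : ∀ v : V, v + v = 0) (B : List V) :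
    ∀ (M : List ℕ) (x : ℕ), comb B (app M x) = comb (M.map (comb B)) x := by
  intro M
  induction M with
  | nil => intros; simp [comb, app, comb_zero]
  | cons c cs ih =>
    intro x
    simp only [app, comb, List.map_cons, comb_xor h2, ih]
    congr 1
    split <;> simp [comb_zero]

/-- If the basis images are given by the columns, the map is given by `app`. -/
theorem comb_intertwine (h2 : ∀ v : V, v + v = 0) (B : List V) (f : V →+ V) (M : List ℕ)
    (h : B.map f = M.map (comb B)) (x : ℕ) : f (comb B x) = comb B (app M x) := by
  rw [map_comb, h, comb_app h2]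

/-- The span of a list is the range of `comb`. -/
theorem exists_comb_of_mem_closure (h2 : ∀ v : V, v + v = 0) (B : List V) {v : V}
    (hv : v ∈ AddSubgroup.closure {x | x ∈ B}) : ∃ x, x < 2 ^ B.length ∧ comb B x = v := by
  induction hv using AddSubgroup.closure_induction with
  | mem y hy =>
    obtain ⟨i, hi, rfl⟩ := List.getElem_of_mem hy
    refine ⟨2 ^ i, Nat.pow_lt_pow_right (by norm_num) hi, ?_⟩
    clear hy
    induction B generalizing i with
    | nil => simp at hi
    | cons c cs ih =>
      cases i with
      | zero => simp [comb, comb_zero]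
      | succ j =>
        simp only [comb, pow_succ, Nat.mul_mod_left, zero_ne_one, if_false, zero_add,
          Nat.mul_div_cancel _ (show 0 < 2 by norm_num), List.getElem_cons_succ]
        exact ih j (by simpa using hi)
  | zero => exact ⟨0, Nat.two_pow_pos _, comb_zero B⟩
  | add a b _ _ ha hb =>
    obtain ⟨x, hx, rfl⟩ := ha
    obtain ⟨y, hy, rfl⟩ := hb
    exact ⟨x ^^^ y, Nat.xor_lt_two_pow hx hy, comb_xor h2 B x y⟩
  | neg a _ ha =>
    obtain ⟨x, hx, rfl⟩ := ha
    exact ⟨x, hx, (neg_eq_of_add_eq_zero_right (h2 _)).symm⟩

end Comb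

end H61.U6M
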