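/-
Checkers for the certificate of fixed vectors.
-/
import Cfsg.Agent.H61.U6M.Code
import Cfsg.Agent.H61.U6M.FixData

set_option autoImplicit false

namespace H61.U6M

/-- Columns of a generator. -/
def gcol (k : ℕ) : List ℕ := gtab.getD k []

/-- A packed word applied to a code. -/
def runN : ℕ → ℕ → ℕ → ℕ
  | 0, _, x => x
  | n + 1, c, x => if c = 0 then x else runN n (c / 9) (app (gcol ((c % 9 - 1) % 8)) x)

/-- Options for a digit. -/
def opts (Sm : ℕ) (P : List (ℕ × ℕ)) (j : ℕ) : List ℕ :=
  if Sm.testBit j then (if (P.map Prod.fst).contains j then [1] else [1, 2, 3]) else [0]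

/-- Normalised vectors with given support and pivots. -/
def enumV (Sm : ℕ) (P : List (ℕ × ℕ)) : ℕ → List ℕ
  | 0 => [0]
  | k + 1 => (enumV Sm P k).flatMap fun r => (opts Sm P k).map fun d => r ^^^ d * 4 ^ k

/-- The words of a support. -/
def wordsOf (Sm : ℕ) : ℕ := (wordsTab.getD (Sm / 64) []).getD (Sm % 64) 0

/-- The pivots of a support. -/
def pivsOf (Sm : ℕ) : List (ℕ × ℕ) := (pivsTab.getD (Sm / 64) []).getD (Sm % 64) []

/-- The representatives. -/
def reps : List ℕ := [1, 5, 273, 277, 1300]

/-- The words of one support are correct. -/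
def supOK (Sm : ℕ) : Bool :=
  ((enumV Sm (pivsOf Sm) 10).foldl
    (fun s x => (s.1 && reps.contains (runN 22 (s.2 % 18446744073709551616) x),
      s.2 / 18446744073709551616)) (true, wordsOf Sm)).1

end H61.U6M
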