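/-
Certificate check, part A.
-/
import Cfsg.Agent.H61.U6M.Check

set_option autoImplicit false

namespace H61.U6M

set_option maxHeartbeats 0 in
theorem sup0 : ∀ r : Fin 64, r.val = 0 ∨ supOK (64 * 0 + r.val) = true := by
  decide +kernel

set_option maxHeartbeats 0 in
theorem sup1 : ∀ r : Fin 64, supOK (64 * 1 + r.val) = true := by
  decide +kernel

set_option maxHeartbeats 0 in
theorem sup2 : ∀ r : Fin 64, supOK (64 * 2 + r.val) = true := by
  decide +kernel

set_option maxHeartbeats 0 in
theorem sup3 : ∀ r : Fin 64, supOK (64 * 3 + r.val) = true := by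
  decide +kernel

set_option maxHeartbeats 0 in
theorem sup4 : ∀ r : Fin 64, supOK (64 * 4 + r.val) = true := by
  decide +kernel

set_option maxHeartbeats 0 in
theorem sup5 : ∀ r : Fin 64, supOK (64 * 5 + r.val) = true := by
  decide +kernel

end H61.U6M
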