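/-
Certificate check, part D.
-/
import Cfsg.Agent.H61.U6M.Check

set_option autoImplicit false

namespace H61.U6M

set_option maxHeartbeats 0 in
theorem sup13 : ∀ r : Fin 64, supOK (64 * 13 + r.val) = true := by
  decide +kernel

set_option maxHeartbeats 0 in
theorem sup14 : ∀ r : Fin 64, supOK (64 * 14 + r.val) = true := by
  decide +kernel

set_option maxHeartbeats 0 in
theorem sup15 : ∀ r : Fin 64, supOK (64 * 15 + r.val) = true := by
  decide +kernel

end H61.U6M
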