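/-
Monomial elements and one transvection of SU6(2) over the concrete field with four elements.
-/
import Cfsg.Agent.H35.K4
import Cfsg.Agent.H50.Simple

set_option autoImplicit false

namespace H61.U6M

open Matrix Cfsg H50

/-- The field with four elements. -/
abbrev K := H35.G24.K4

theorem hK : Fintype.card K = 2 ^ 2 := H35.G24.K4.card_eq

/-- Powers of the primitive cube root of unity. -/
def wp (z : ZMod 3) : K :=
  H35.G24.K4.ofN (match (z : Fin 3).val with | 0 => 1 | 1 => 2 | _ => 3)

theorem wp_add : ∀ x y : ZMod 3, wp (x + y) = wp x * wp y := by decide +kernel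

theorem wp_norm : ∀ x : ZMod 3, wp x * wp x ^ 2 = 1 := by decide +kernel

theorem wp_zero : wp 0 = 1 := rfl

theorem add_self (x : K) : x + x = 0 := H35.G24.K4.add_self x

/-- Parameters of the diagonal subgroup. -/
abbrev Cv := Fin 5 → ZMod 3

/-- The six exponents. -/
def ext (a : Cv) : Fin 6 → ZMod 3 := Fin.snoc a (-∑ i, a i)

theorem ext_add (a b : Cv) : ext (a + b) = ext a + ext b := by
  funext i
  refine Fin.lastCases ?_ (fun j => ?_) i
  · simp only [ext, Fin.snoc_last, Pi.add_apply, Finset.sum_add_distrib]; ring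
  · simp [ext]

theorem ext_sum (a : Cv) : ∑ i, ext a i = 0 := by
  rw [Fin.sum_univ_castSucc]; simp only [ext, Fin.snoc_castSucc, Fin.snoc_last, add_neg_cancel]

theorem ext_init (c : Fin 6 → ZMod 3) (h : ∑ i, c i = 0) :
    ext (fun i => c i.castSucc) = c := by
  funext i
  refine Fin.lastCases ?_ (fun j => ?_) i
  · rw [Fin.sum_univ_castSucc] at h
    simp only [ext, Fin.snoc_last]
    exact neg_eq_of_add_eq_zero_right h
  · simp [ext]

theorem prod_wp {ι : Type*} [DecidableEq ι] (s : Finset ι) (c : ι → ZMod 3) :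
    ∏ i ∈ s, wp (c i) = wp (∑ i ∈ s, c i) := by
  induction s using Finset.induction with
  | empty => simp [wp_zero]
  | insert a t ha ih => rw [Finset.prod_insert ha, Finset.sum_insert ha, wp_add, ih]

/-- The diagonal element. -/
def D (a : Cv) : SU 6 K 2 :=
  mkSU (diagonal fun i => wp (ext a i))
    (fun u v => by
      simp only [hermForm, mulVec_diagonal]
      refine Finset.sum_congr rfl fun i _ => ?_
      linear_combination (u i * v i ^ 2) * wp_norm (ext a i))
    (by rw [det_diagonal, prod_wp, ext_sum, wp_zero])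

theorem D_apply (a : Cv) (x : Fin 6 → K) (i : Fin 6) :
    (suMat (D a) *ᵥ x) i = wp (ext a i) * x i := mulVec_diagonal _ x i

theorem D_add (a b : Cv) : D (a + b) = D a * D b :=
  suMat_ext fun x => funext fun i => by
    rw [suMat_mulVec_mul, D_apply, D_apply, D_apply, ext_add, Pi.add_apply, wp_add, mul_assoc]

/-- The permutation element, sending the `i`th basis vector to the `σ i`th. -/
def P (σ : Equiv.Perm (Fin 6)) : SU 6 K 2 :=
  mkSU ((1 : Matrix (Fin 6) (Fin 6) K).submatrix σ.symm id)
    (fun u v => by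
      have h : ∀ (w : Fin 6 → K) i,
          ((1 : Matrix (Fin 6) (Fin 6) K).submatrix σ.symm id *ᵥ w) i = w (σ.symm i) := fun w i => by
        simp [Matrix.mulVec, dotProduct, Matrix.one_apply]
      simp only [hermForm, h]
      exact Equiv.sum_comp σ.symm fun i => u i * v i ^ 2)
    (by
      rw [det_permute, det_one, mul_one]
      rcases Int.units_eq_one_or (Equiv.Perm.sign σ.symm) with h | h <;> rw [h]
      · simp
      · rw [Units.val_neg, Units.val_one, Int.cast_neg, Int.cast_one]
        exact neg_eq_of_add_eq_zero_right (add_self 1))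

theorem P_apply (σ : Equiv.Perm (Fin 6)) (x : Fin 6 → K) (i : Fin 6) :
    (suMat (P σ) *ᵥ x) i = x (σ.symm i) := by
  change (((1 : Matrix (Fin 6) (Fin 6) K).submatrix σ.symm id) *ᵥ x) i = _
  simp [Matrix.mulVec, dotProduct, Matrix.one_apply]

theorem P_mul (σ τ : Equiv.Perm (Fin 6)) : P (σ * τ) = P σ * P τ :=
  suMat_ext fun x => funext fun i => by
    rw [suMat_mulVec_mul, P_apply, P_apply, P_apply]
    exact congrArg x rfl

theorem P_one : P 1 = 1 :=
  suMat_ext fun x => funext fun i => by rw [P_apply, suMat_one, one_mulVec]; rfl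

/-- Permuting exponent vectors. -/
def permA (σ : Equiv.Perm (Fin 6)) (a : Cv) : Cv := fun i => ext a (σ.symm i.castSucc)

theorem ext_permA (σ : Equiv.Perm (Fin 6)) (a : Cv) :
    ext (permA σ a) = fun i => ext a (σ.symm i) :=
  ext_init (fun i => ext a (σ.symm i)) (by rw [Equiv.sum_comp σ.symm (ext a)]; exact ext_sum a)

theorem P_D (σ : Equiv.Perm (Fin 6)) (a : Cv) : P σ * D a = D (permA σ a) * P σ :=
  suMat_ext fun x => funext fun i => by
    rw [suMat_mulVec_mul, suMat_mulVec_mul, P_apply, D_apply, D_apply, P_apply, ext_permA]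

/-- The centre of the extra transvection. -/
def sv : Fin 6 → K := ![1, 1, 1, 1, 0, 0]

theorem sv_iso : hermForm 6 K 2 sv sv = 0 := by decide +kernel

theorem c_one : (1 : K) + 1 ^ 2 = 0 := by decide +kernel

/-- The extra transvection. -/
noncomputable def S : SU 6 K 2 := tv hK sv 1 sv_iso c_one

theorem S_apply (x : Fin 6 → K) : suMat S *ᵥ x = x + hermForm 6 K 2 x sv • sv := by
  rw [S, tv_mulVec, one_mul]

/-- Scalars in the diagonal subgroup. -/
theorem D_const_center (a : Cv) (h : ∀ i, ext a i = ext a 0) :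
    D a ∈ Subgroup.center (SU 6 K 2) := by
  refine Subgroup.mem_center_iff.2 fun g => suMat_ext fun x => ?_
  rw [suMat_mulVec_mul, suMat_mulVec_mul]
  have hd : ∀ y : Fin 6 → K, suMat (D a) *ᵥ y = wp (ext a 0) • y := fun y =>
    funext fun i => by rw [D_apply, h, Pi.smul_apply, smul_eq_mul]
  rw [hd, hd, mulVec_smul]

end H61.U6M
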