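/-
Weight decomposition of a 20-dimensional module of SU6(2) under the diagonal 3-group: it consists
of ten two-dimensional pieces attached to the splittings of six points into two triples.
-/
import Cfsg.Agent.H61.U6M.Gens
import Cfsg.Agent.H61.U6M.Code

set_option autoImplicit false
set_option linter.unusedSectionVars false

namespace H61.U6M

open Matrix Cfsg H50

/-- An action of SU6(2) on a vector space with 2 ^ 20 elements, trivial on scalars only. -/
structure Ctx (V : Type*) [AddCommGroup V] where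
  /-- The action. -/
  act : SU 6 K 2 → V →+ V
  one : ∀ v, act 1 v = v
  mul : ∀ g h v, act (g * h) v = act g (act h v)
  two : ∀ v : V, v + v = 0
  card : Nat.card V = 2 ^ 20
  cen : ∀ z ∈ Subgroup.center (SU 6 K 2), ∀ v, act z v = v
  faith : ∀ g, (∀ v, act g v = v) → g ∈ Subgroup.center (SU 6 K 2)

/-- Pairing of exponent vectors. -/
def dot (f : Fin 6 → ZMod 3) (a : Cv) : ZMod 3 := ∑ i, f i * ext a i

theorem dot_add (f : Fin 6 → ZMod 3) (a b : Cv) : dot f (a + b) = dot f a + dot f b := by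
  simp only [dot, ext_add, Pi.add_apply, mul_add, Finset.sum_add_distrib]

/-- The differences of two coordinates. -/
def tabA : List (List (ZMod 3)) :=
  [[1, 2, 0, 0, 0, 0], [1, 0, 2, 0, 0, 0], [1, 0, 0, 2, 0, 0], [1, 0, 0, 0, 2, 0],
   [1, 0, 0, 0, 0, 2], [0, 1, 2, 0, 0, 0], [0, 1, 0, 2, 0, 0], [0, 1, 0, 0, 2, 0],
   [0, 1, 0, 0, 0, 2], [0, 0, 1, 2, 0, 0], [0, 0, 1, 0, 2, 0], [0, 0, 1, 0, 0, 2],
   [0, 0, 0, 1, 2, 0], [0, 0, 0, 1, 0, 2], [0, 0, 0, 0, 1, 2]]

/-- The triples through the first point. -/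
def tabB : List (List (ZMod 3)) :=
  [[1, 1, 1, 0, 0, 0], [1, 1, 0, 1, 0, 0], [1, 1, 0, 0, 1, 0], [1, 1, 0, 0, 0, 1],
   [1, 0, 1, 1, 0, 0], [1, 0, 1, 0, 1, 0], [1, 0, 1, 0, 0, 1], [1, 0, 0, 1, 1, 0],
   [1, 0, 0, 1, 0, 1], [1, 0, 0, 0, 1, 1]]

/-- The remaining lines. -/
def tabC : List (List (ZMod 3)) :=
  [[1, 1, 2, 2, 0, 0], [1, 1, 2, 0, 2, 0], [1, 1, 2, 0, 0, 2], [1, 2, 1, 2, 0, 0],
   [1, 2, 1, 0, 2, 0], [1, 2, 1, 0, 0, 2], [1, 2, 2, 1, 0, 0], [1, 2, 0, 1, 2, 0],
   [1, 2, 0, 1, 0, 2], [1, 2, 2, 0, 1, 0], [1, 2, 0, 2, 1, 0], [1, 2, 0, 0, 1, 2],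
   [1, 2, 2, 0, 0, 1], [1, 2, 0, 2, 0, 1], [1, 2, 0, 0, 2, 1]]

/-- The forty lines: the triples first. -/
def line (l : Fin 40) : Fin 6 → ZMod 3 := fun i =>
  ((tabB ++ tabA ++ tabC).getD l.val []).getD i.val 0

theorem line_count : ∀ a : Cv, (Finset.univ.filter fun l => dot (line l) a = 0).card % 2 =
    if (∀ i, ext a i = ext a 0) then 0 else 1 := by
  decide +kernel

theorem line_sep : ∀ l m : Fin 40, l ≠ m → ∃ b : Cv, dot (line m) b = 0 ∧ dot (line l) b ≠ 0 := by
  decide +kernel

theorem line_ne : ∀ l : Fin 40, ∃ b : Cv, dot (line l) b ≠ 0 := by decide +kernel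

variable {V : Type*} [AddCommGroup V] (C : Ctx V)

namespace Ctx

/-- The diagonal action. -/
def R (a : Cv) : V →+ V := C.act (D a)

theorem R_add (a b : Cv) (v : V) : C.R (a + b) v = C.R a (C.R b v) := by
  rw [R, D_add, C.mul]; rfl

theorem R_zero (v : V) : C.R 0 v = v := by
  have h := C.R_add 0 0 v
  rw [add_zero] at h
  have hinj : Function.Injective (C.R 0) := fun x y e => by
    have := congrArg (C.act (D 0)⁻¹) e
    simp only [R, ← C.mul, inv_mul_cancel, C.one] at this
    exact this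
  exact (hinj h).symm

theorem R_comm (a b : Cv) (v : V) : C.R a (C.R b v) = C.R b (C.R a v) := by
  rw [← R_add, ← R_add, add_comm]

/-- The weight space of a line. -/
def W (f : Fin 6 → ZMod 3) : AddSubgroup V where
  carrier := {x | ∀ a, (dot f a = 0 → C.R a x = x) ∧
    (dot f a ≠ 0 → x + C.R a x + C.R (a + a) x = 0)}
  zero_mem' a := by simp
  add_mem' {x y} hx hy a := by
    refine ⟨fun h => by rw [map_add, (hx a).1 h, (hy a).1 h], fun h => ?_⟩
    rw [map_add, map_add]
    calc _ = (x + C.R a x + C.R (a + a) x) + (y + C.R a y + C.R (a + a) y) := by abel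
      _ = 0 := by rw [(hx a).2 h, (hy a).2 h, add_zero]
  neg_mem' {x} hx := by
    have : -x = x := neg_eq_of_add_eq_zero_right (C.two x)
    rw [this]; exact hx

/-- The fixed space of the diagonal subgroup. -/
def Fix0 : AddSubgroup V where
  carrier := {x | ∀ a, C.R a x = x}
  zero_mem' a := by simp
  add_mem' {x y} hx hy a := by rw [map_add, hx a, hy a]
  neg_mem' {x} hx a := by rw [map_neg, hx a]

theorem fpf {f : Fin 6 → ZMod 3} {x : V} (hx : x ∈ C.W f) {b : Cv} (hb : dot f b ≠ 0)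
    (h : C.R b x = x) : x = 0 := by
  have := (hx b).2 hb
  rwa [R_add, h, h, C.two, zero_add] at this

theorem W_R {f : Fin 6 → ZMod 3} {x : V} (hx : x ∈ C.W f) (b : Cv) : C.R b x ∈ C.W f := fun a => by
  refine ⟨fun h => by rw [R_comm, (hx a).1 h], fun h => ?_⟩
  rw [C.R_comm a, C.R_comm (a + a), ← map_add, ← map_add, (hx a).2 h, map_zero]

/-- Operators `1 + R b`. -/
def kk (b : Cv) : V →+ V := AddMonoidHom.id V + C.R b

theorem kk_apply (b : Cv) (x : V) : C.kk b x = x + C.R b x := rfl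

theorem indep (s : Finset (Fin 40)) : ∀ (x : Fin 40 → V) (x0 : V),
    (∀ l ∈ s, x l ∈ C.W (line l)) → x0 ∈ C.Fix0 → x0 + ∑ l ∈ s, x l = 0 → ∀ l ∈ s, x l = 0 := by
  induction s using Finset.induction_on_max_value (fun l : Fin 40 => l) with
  | empty => intro _ _ _ _ _ l hl; simp at hl
  | @insert m t hm _ ih =>
    intro x x0 hx h0 hsum
    rw [Finset.sum_insert hm] at hsum
    have hrest : ∀ l ∈ t, x l = 0 := by
      intro l hl
      have hlm : l ≠ m := fun e => hm (e ▸ hl)
      obtain ⟨b, hbm, hbl⟩ := line_sep l m hlm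
      have hk := congrArg (C.kk b) hsum
      rw [map_add, map_add, map_sum, map_zero, kk_apply C b x0, h0 b, C.two, zero_add, kk_apply,
        (hx m (Finset.mem_insert_self ..) b).1 hbm, C.two, zero_add] at hk
      have := ih (fun i => C.kk b (x i)) 0
        (fun i hi => add_mem (hx i (Finset.mem_insert_of_mem hi))
          (C.W_R (hx i (Finset.mem_insert_of_mem hi)) b))
        (zero_mem _) (by rw [zero_add]; exact hk) l hl
      rw [kk_apply] at this
      refine C.fpf (hx l (Finset.mem_insert_of_mem hl)) hbl ?_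
      exact ((eq_neg_of_add_eq_zero_right this).trans (neg_eq_of_add_eq_zero_right (C.two _)))
    intro l hl
    rcases Finset.mem_insert.1 hl with rfl | hl
    · rw [Finset.sum_eq_zero hrest, add_zero] at hsum
      obtain ⟨b, hb⟩ := line_ne l
      refine C.fpf (hx l (Finset.mem_insert_self ..)) hb ?_
      have e : x l = x0 := by
        rw [eq_neg_of_add_eq_zero_right hsum, neg_eq_of_add_eq_zero_right (C.two _)]
      rw [e, h0 b]
    · exact hrest l hl

/-- The sum of the action over a hyperplane. -/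
def p (f : Fin 6 → ZMod 3) (x : V) : V :=
  ∑ a ∈ Finset.univ.filter (fun a => dot f a = 0), C.R a x

/-- The sum of the action over all parameters. -/
def p0 (x : V) : V := ∑ a, C.R a x

theorem p0_fix (x : V) : C.p0 x ∈ C.Fix0 := fun b => by
  rw [p0, map_sum]
  exact Fintype.sum_equiv (Equiv.addLeft b) _ _ fun a => (C.R_add b a x).symm

theorem p_shift (f : Fin 6 → ZMod 3) (x : V) (b : Cv) :
    C.R b (C.p f x) = ∑ a ∈ Finset.univ.filter (fun a => dot f a = dot f b), C.R a x := by
  rw [p, map_sum]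
  refine Finset.sum_bij' (fun a _ => b + a) (fun a _ => a - b) ?_ ?_ ?_ ?_ ?_
  · intro a ha; simp only [Finset.mem_filter, Finset.mem_univ, true_and] at ha ⊢
    rw [dot_add, ha, add_zero]
  · intro a ha; simp only [Finset.mem_filter, Finset.mem_univ, true_and] at ha ⊢
    have := dot_add f b (a - b)
    rw [add_sub_cancel, ha] at this
    exact left_eq_add.1 this
  · intro a _; exact add_sub_cancel_left b a
  · intro a _; exact add_sub_cancel b a
  · intro a _; exact (C.R_add b a x).symm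

theorem q_mem (f : Fin 6 → ZMod 3) (x : V) : C.p f x + C.p0 x ∈ C.W f := by
  intro b
  refine ⟨fun h => ?_, fun h => ?_⟩
  · rw [map_add, C.p0_fix x b, p_shift, h]; rfl
  rw [map_add, map_add, C.p0_fix x b, C.p0_fix x (b + b), p_shift, p_shift, dot_add]
  have hp : C.p f x = ∑ a ∈ Finset.univ.filter (fun a => dot f a = 0), C.R a x := rfl
  have hsum : C.p0 x = ∑ t : ZMod 3, ∑ a ∈ Finset.univ.filter (fun a => dot f a = t), C.R a x :=
    (Finset.sum_fiberwise Finset.univ (fun a => dot f a) (fun a => C.R a x)).symm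
  have h3 : ∀ d : ZMod 3, d ≠ 0 → (Finset.univ : Finset (ZMod 3)) = {0, d, d + d} ∧ d ≠ d + d ∧
      d + d ≠ 0 := by decide
  obtain ⟨e1, e2, e3⟩ := h3 _ h
  rw [e1, Finset.sum_insert (by simp [Ne.symm h, Ne.symm e3]),
    Finset.sum_insert (by simp [e2]), Finset.sum_singleton, ← hp] at hsum
  calc _ = (C.p f x + (∑ a ∈ Finset.univ.filter (fun a => dot f a = dot f b), C.R a x +
        ∑ a ∈ Finset.univ.filter (fun a => dot f a = dot f b + dot f b), C.R a x)) + C.p0 x
        + (C.p0 x + C.p0 x) := by abel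
    _ = 0 := by rw [← hsum, C.two]

theorem const_cases : ∀ a : Cv, (∀ i, ext a i = ext a 0) ↔
    a ∈ ({0, fun _ => 1, fun _ => 2} : Finset Cv) := by decide +kernel

include C in
theorem two_nsmul' (n : ℕ) (v : V) : n • v = (n % 2) • v := by
  conv_lhs => rw [← Nat.div_add_mod n 2]
  rw [add_nsmul, mul_nsmul, two_nsmul, C.two, nsmul_zero, zero_add]

theorem spanning (x : V) : x = C.p0 x + ∑ l, (C.p (line l) x + C.p0 x) := by
  have h40 : ∑ _l : Fin 40, C.p0 x = 0 := by
    rw [Finset.sum_const, Finset.card_univ, Fintype.card_fin, C.two_nsmul', zero_nsmul]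
  have hs : ∑ l, C.p (line l) x =
      ∑ a ∈ Finset.univ.filter (fun a => ¬ ∀ i, ext a i = ext a 0), C.R a x := by
    simp only [p, Finset.sum_filter]
    rw [Finset.sum_comm]
    refine Finset.sum_congr rfl fun a _ => ?_
    rw [← Finset.sum_filter, Finset.sum_const, C.two_nsmul', line_count]
    split_ifs <;> simp
  have hc : ∑ a ∈ Finset.univ.filter (fun a : Cv => ∀ i, ext a i = ext a 0), C.R a x = x := by
    have hfix : ∀ a ∈ Finset.univ.filter (fun a : Cv => ∀ i, ext a i = ext a 0), C.R a x = x :=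
      fun a ha => C.cen _ (D_const_center a (Finset.mem_filter.1 ha).2) x
    rw [Finset.sum_congr rfl hfix, Finset.sum_const, C.two_nsmul']
    rw [show ((Finset.univ.filter (fun a : Cv => ∀ i, ext a i = ext a 0)).card % 2) = 1 by
      decide +kernel, one_nsmul]
  rw [Finset.sum_add_distrib, h40, add_zero, hs]
  conv_rhs => rw [p0, ← Finset.sum_filter_add_sum_filter_not Finset.univ
    (fun a : Cv => ∀ i, ext a i = ext a 0), hc, add_assoc, C.two, add_zero]

/-- The decomposition map. -/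
noncomputable def decomp : ↥C.Fix0 × ((l : Fin 40) → ↥(C.W (line l))) → V :=
  fun z => (z.1 : V) + ∑ l, (z.2 l : V)

theorem decomp_bijective : Function.Bijective C.decomp := by
  constructor
  · rintro ⟨a, f⟩ ⟨a', f'⟩ h
    have h' : ((a : V) + a') + ∑ l, ((f l : V) + f' l) = 0 := by
      rw [Finset.sum_add_distrib]
      calc _ = ((a : V) + ∑ l, (f l : V)) + ((a' : V) + ∑ l, (f' l : V)) := by abel
        _ = 0 := by
          have h' : (a : V) + ∑ l, (f l : V) = (a' : V) + ∑ l, (f' l : V) := h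
          rw [h', C.two]
    have h0 := C.indep Finset.univ (fun l => (f l : V) + f' l) _
      (fun l _ => add_mem (f l).2 (f' l).2) (add_mem a.2 a'.2) h'
    have hf : f = f' := funext fun l => Subtype.ext <| by
      rw [eq_neg_of_add_eq_zero_left (h0 l (Finset.mem_univ _)),
        neg_eq_of_add_eq_zero_right (C.two _)]
    subst hf
    have ha : a = a' := Subtype.ext (add_right_cancel (show (a : V) + _ = (a' : V) + _ from h))
    rw [ha]
  · intro x
    exact ⟨(⟨_, C.p0_fix x⟩, fun l => ⟨_, C.q_mem (line l) x⟩), (C.spanning x).symm⟩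

theorem card_decomp :
    Nat.card ↥C.Fix0 * ∏ l, Nat.card ↥(C.W (line l)) = 2 ^ 20 := by
  rw [← C.card, ← Nat.card_congr (Equiv.ofBijective _ C.decomp_bijective), Nat.card_prod,
    Nat.card_pi]

end Ctx

end H61.U6M
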