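/-
Permutation tables for the splittings of six points.
-/
import Cfsg.Agent.H61.U6M.Decomp

set_option autoImplicit false
set_option linter.unusedSectionVars false

namespace H61.U6M

open Matrix Cfsg H50

/-- The permutation carrying the first triple to the `j`th one. -/
def sig : Fin 10 → Equiv.Perm (Fin 6)
  | 0 => 1
  | 1 => Equiv.swap 2 3
  | 2 => Equiv.swap 2 4
  | 3 => Equiv.swap 2 5
  | 4 => Equiv.swap 1 3
  | 5 => Equiv.swap 1 4
  | 6 => Equiv.swap 1 5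
  | 7 => Equiv.swap 1 3 * Equiv.swap 2 4
  | 8 => Equiv.swap 1 3 * Equiv.swap 2 5
  | 9 => Equiv.swap 1 4 * Equiv.swap 2 5

/-- The exchange of the two triples. -/
def flipP : Equiv.Perm (Fin 6) := Equiv.swap 0 3 * Equiv.swap 1 4 * Equiv.swap 2 5

/-- Permutations of the first triple. -/
def sym3 : Fin 6 → Equiv.Perm (Fin 6)
  | 0 => 1
  | 1 => Equiv.swap 0 1
  | 2 => Equiv.swap 1 2
  | 3 => Equiv.swap 0 1 * Equiv.swap 1 2
  | 4 => Equiv.swap 1 2 * Equiv.swap 0 1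
  | 5 => Equiv.swap 0 1 * Equiv.swap 1 2 * Equiv.swap 0 1

/-- Permutations of the second triple. -/
def sym3' : Fin 6 → Equiv.Perm (Fin 6)
  | 0 => 1
  | 1 => Equiv.swap 3 4
  | 2 => Equiv.swap 4 5
  | 3 => Equiv.swap 3 4 * Equiv.swap 4 5
  | 4 => Equiv.swap 4 5 * Equiv.swap 3 4
  | 5 => Equiv.swap 3 4 * Equiv.swap 4 5 * Equiv.swap 3 4

/-- Does a permutation exchange the triples of the splitting `j` on the way to its image? -/
def flips (σ : Equiv.Perm (Fin 6)) (j : Fin 10) : Bool :=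
  decide (∀ i : Fin 6, line (j.castLE (by norm_num)) i = 1 → σ i ≠ 0)

/-- The image splitting. -/
def jimg (σ : Equiv.Perm (Fin 6)) (j : Fin 10) : Fin 10 :=
  ((List.finRange 10).find? fun k =>
    decide (∀ i : Fin 6, (line (k.castLE (by norm_num)) (σ i) = 1) ↔
      (line (j.castLE (by norm_num)) i = if flips σ j then 0 else 1))).getD 0

/-- Conjugation of a code. -/
def conjC (f : Bool) (c : ℕ) : ℕ := if f then ([0, 1, 3, 2] : List ℕ).getD c 0 else c

/-- Multiplication of a code by a power of the cube root. -/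
def mulC (t : ZMod 3) (c : ℕ) : ℕ :=
  ([[0, 1, 2, 3], [0, 2, 3, 1], [0, 3, 1, 2]] : List (List ℕ)).getD (t : Fin 3).val [] |>.getD c 0

/-- Columns of a monomial permutation. -/
def colP (σ : Equiv.Perm (Fin 6)) : List ℕ :=
  (List.finRange 10).flatMap fun j =>
    [conjC (flips σ j) 1 * 4 ^ (jimg σ j).val, conjC (flips σ j) 2 * 4 ^ (jimg σ j).val]

/-- The weight of the `j`th triple. -/
def wt (j : Fin 10) (a : Cv) : ZMod 3 := dot (line (j.castLE (by norm_num))) a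

/-- Columns of a diagonal element. -/
def colD (a : Cv) : List ℕ :=
  (List.finRange 10).flatMap fun j => [mulC (wt j a) 1 * 4 ^ j.val, mulC (wt j a) 2 * 4 ^ j.val]

theorem wt_sig : ∀ j : Fin 10, ∀ a : Cv,
    dot (line 0) (permA (sig j)⁻¹ a) = wt j a := by
  decide +kernel

/-- The parameter acting as the cube root on the first splitting. -/
def e0 : Cv := ![1, 0, 0, 0, 0]

theorem dot_e0 : dot (line 0) e0 = 1 := by decide +kernel

theorem permA_mul_inv (σ : Equiv.Perm (Fin 6)) (a : Cv) : permA σ (permA σ⁻¹ a) = a := by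
  funext i
  show ext (permA σ⁻¹ a) (σ.symm i.castSucc) = a i
  rw [ext_permA]
  show ext a ((σ⁻¹).symm (σ.symm i.castSucc)) = a i
  simp [Equiv.Perm.inv_def, ext]

/-- Permutations moving the first difference line. -/
def sigA : Fin 15 → Equiv.Perm (Fin 6)
  | 0 => 1
  | 1 => Equiv.swap 1 2
  | 2 => Equiv.swap 1 3 * Equiv.swap 2 3
  | 3 => Equiv.swap 1 4 * Equiv.swap 2 4 * Equiv.swap 3 4
  | 4 => Equiv.swap 1 5 * Equiv.swap 2 5 * Equiv.swap 3 5 * Equiv.swap 4 5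
  | 5 => Equiv.swap 0 1 * Equiv.swap 1 2
  | 6 => Equiv.swap 0 1 * Equiv.swap 1 3 * Equiv.swap 2 3
  | 7 => Equiv.swap 0 1 * Equiv.swap 1 4 * Equiv.swap 2 4 * Equiv.swap 3 4
  | 8 => Equiv.swap 0 1 * Equiv.swap 1 5 * Equiv.swap 2 5 * Equiv.swap 3 5 * Equiv.swap 4 5
  | 9 => Equiv.swap 0 2 * Equiv.swap 1 3
  | 10 => Equiv.swap 0 2 * Equiv.swap 1 4 * Equiv.swap 3 4
  | 11 => Equiv.swap 0 2 * Equiv.swap 1 5 * Equiv.swap 3 5 * Equiv.swap 4 5
  | 12 => Equiv.swap 0 3 * Equiv.swap 1 4 * Equiv.swap 2 3 * Equiv.swap 3 4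
  | 13 => Equiv.swap 0 3 * Equiv.swap 1 5 * Equiv.swap 2 3 * Equiv.swap 3 5 * Equiv.swap 4 5
  | 14 => Equiv.swap 0 4 * Equiv.swap 1 5 * Equiv.swap 2 4 * Equiv.swap 3 5

/-- Permutations moving the first partition line. -/
def sigC : Fin 15 → Equiv.Perm (Fin 6)
  | 0 => 1
  | 1 => Equiv.swap 3 4
  | 2 => Equiv.swap 3 5 * Equiv.swap 4 5
  | 3 => Equiv.swap 1 2
  | 4 => Equiv.swap 1 2 * Equiv.swap 3 4
  | 5 => Equiv.swap 1 2 * Equiv.swap 3 5 * Equiv.swap 4 5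
  | 6 => Equiv.swap 1 3 * Equiv.swap 2 3
  | 7 => Equiv.swap 1 3 * Equiv.swap 2 3 * Equiv.swap 3 4
  | 8 => Equiv.swap 1 3 * Equiv.swap 2 3 * Equiv.swap 3 5 * Equiv.swap 4 5
  | 9 => Equiv.swap 1 4 * Equiv.swap 2 4 * Equiv.swap 3 4
  | 10 => Equiv.swap 1 4 * Equiv.swap 2 4
  | 11 => Equiv.swap 1 4 * Equiv.swap 2 4 * Equiv.swap 3 5
  | 12 => Equiv.swap 1 5 * Equiv.swap 2 5 * Equiv.swap 3 5 * Equiv.swap 4 5
  | 13 => Equiv.swap 1 5 * Equiv.swap 2 5 * Equiv.swap 4 5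
  | 14 => Equiv.swap 1 5 * Equiv.swap 2 5 * Equiv.swap 3 4 * Equiv.swap 4 5

/-- The adjacent transpositions. -/
def adj (i : Fin 5) : Equiv.Perm (Fin 6) := Equiv.swap i.castSucc i.succ

theorem stab_factor : ∀ i : Fin 5, ∀ j : Fin 10,
    ∃ u v : Fin 6, (sig (jimg (adj i) j))⁻¹ * adj i * sig j =
      (if flips (adj i) j then flipP else 1) * sym3 u * sym3' v := by
  decide +kernel

theorem orbA : ∀ k : Fin 15, ∀ a : Cv,
    dot (line ⟨10 + k.val, by omega⟩) (permA (sigA k) a) = 0 ↔ dot (line 10) a = 0 := by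
  decide +kernel

theorem orbB : ∀ k : Fin 10, ∀ a : Cv,
    dot (line (k.castLE (by norm_num))) (permA (sig k) a) = 0 ↔ dot (line 0) a = 0 := by
  decide +kernel

theorem orbC : ∀ k : Fin 15, ∀ a : Cv,
    dot (line ⟨25 + k.val, by omega⟩) (permA (sigC k) a) = 0 ↔ dot (line 25) a = 0 := by
  decide +kernel

end H61.U6M
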