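/-
The basis of the module and the action of the monomial subgroup in it.
-/
import Cfsg.Agent.H61.U6M.Tables

set_option autoImplicit false
set_option linter.unusedSectionVars false

namespace H61.U6M

open Matrix Cfsg H50

/-- A parameter of given weight on the first splitting. -/
def aOf (t : ZMod 3) : Cv := if t = 0 then 0 else if t = 1 then e0 else e0 + e0

theorem dot_aOf : ∀ t, dot (line 0) (aOf t) = t := by decide +kernel

theorem zmod3 : ∀ t : ZMod 3, t = 0 ∨ t = 1 ∨ t = 2 := by decide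

theorem zmod3_double : ∀ t : ZMod 3, t ≠ 0 → t + t ≠ 0 := by decide

theorem mulC_zero : ∀ c < 4, mulC 0 c = c := by decide +kernel

theorem mulC_two : ∀ c < 4, mulC 1 (mulC 1 c) = mulC 2 c := by decide +kernel

theorem mulC_lt : ∀ t : ZMod 3, ∀ c < 4, mulC t c < 4 := by decide +kernel

theorem conjC_lt : ∀ f : Bool, ∀ c < 4, conjC f c < 4 := by decide +kernel

theorem comb_pairs {W : Type*} [AddCommGroup W] {ι : Type*} (f : ι → W × W) :
    ∀ (l : List ι) (i : ℕ) (hi : i < l.length) (c : ℕ), c < 4 →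
      comb (l.flatMap fun y => [(f y).1, (f y).2]) (c * 4 ^ i) =
        comb [(f l[i]).1, (f l[i]).2] c := by
  intro l
  induction l with
  | nil => intro i hi; simp at hi
  | cons a t ih =>
    intro i hi c hc
    simp only [List.flatMap_cons, List.cons_append, List.nil_append, comb]
    cases i with
    | zero =>
      simp only [pow_zero, mul_one, List.getElem_cons_zero]
      rw [show c / 2 / 2 = 0 by omega, comb_zero]
    | succ n =>
      have e : c * 4 ^ (n + 1) = (c * 4 ^ n * 2) * 2 := by ring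
      have e2 : c * 4 ^ n * 2 * 2 / 2 = c * 4 ^ n * 2 := Nat.mul_div_cancel _ (by norm_num)
      simp only [e, Nat.mul_mod_left, zero_ne_one, if_false, zero_add, e2,
        Nat.mul_div_cancel _ (show 0 < 2 by norm_num), List.getElem_cons_succ]
      exact ih n (by simpa using hi) c hc

variable {V : Type*} [AddCommGroup V] (C : Ctx V)

namespace Ctx

/-- The action of a permutation. -/
def T (σ : Equiv.Perm (Fin 6)) : V →+ V := C.act (P σ)

theorem T_mul (σ τ : Equiv.Perm (Fin 6)) (v : V) : C.T (σ * τ) v = C.T σ (C.T τ v) := by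
  rw [T, P_mul, C.mul]; rfl

theorem T_one (v : V) : C.T 1 v = v := by rw [T, P_one, C.one]

theorem T_R (σ : Equiv.Perm (Fin 6)) (a : Cv) (v : V) :
    C.T σ (C.R a v) = C.R (permA σ a) (C.T σ v) := by
  rw [T, R, R, ← C.mul, ← C.mul, P_D]

theorem T_inj (σ : Equiv.Perm (Fin 6)) : Function.Injective (C.T σ) := fun x y h => by
  have := congrArg (C.T σ⁻¹) h
  rwa [← C.T_mul, ← C.T_mul, inv_mul_cancel, C.T_one, C.T_one] at this

theorem T_W {σ : Equiv.Perm (Fin 6)} {f g : Fin 6 → ZMod 3}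
    (h : ∀ a, dot g (permA σ a) = 0 ↔ dot f a = 0) {x : V} (hx : x ∈ C.W f) :
    C.T σ x ∈ C.W g := by
  intro b
  rw [← permA_mul_inv σ b]
  refine ⟨fun hb => ?_, fun hb => ?_⟩
  · rw [← C.T_R, (hx _).1 ((h _).1 hb)]
  · rw [R_add, ← C.T_R, ← C.T_R, ← map_add, ← map_add, ← R_add,
      (hx _).2 (fun e => hb ((h _).2 e)), map_zero]

theorem card_W_le {σ : Equiv.Perm (Fin 6)} {f g : Fin 6 → ZMod 3}
    (h : ∀ a, dot g (permA σ a) = 0 ↔ dot f a = 0) :
    Nat.card ↥(C.W f) ≤ Nat.card ↥(C.W g) := by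
  haveI : Finite V := Nat.finite_of_card_ne_zero (by rw [C.card]; norm_num)
  refine Nat.card_le_card_of_injective (fun x => ⟨C.T σ x, C.T_W h x.2⟩) fun x y e => ?_
  exact Subtype.ext (C.T_inj σ (congrArg Subtype.val e))

theorem four_le {f : Fin 6 → ZMod 3} {b : Cv} (hb : dot f b ≠ 0) (h : C.W f ≠ ⊥) :
    4 ≤ Nat.card ↥(C.W f) := by
  haveI : Finite V := Nat.finite_of_card_ne_zero (by rw [C.card]; norm_num)
  obtain ⟨x, hx, hx0⟩ := (C.W f).ne_bot_iff_exists_ne_zero.1 h |> fun ⟨x, hx⟩ =>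
    (⟨x.1, x.2, fun e => hx (Subtype.ext e)⟩ : ∃ y, y ∈ C.W f ∧ y ≠ (0 : V))
  have hy : C.R b x ≠ x := fun e => hx0 (C.fpf hx hb e)
  have hy0 : C.R b x ≠ 0 := fun e => by
    have := (hx b).2 hb
    rw [R_add, e, map_zero, add_zero, add_zero] at this
    exact hx0 this
  have hs : x + C.R b x ≠ 0 := fun e => hy (by
    rw [eq_neg_of_add_eq_zero_right e, neg_eq_of_add_eq_zero_right (C.two x)])
  have hinj : Function.Injective (![⟨0, zero_mem _⟩, ⟨x, hx⟩, ⟨C.R b x, C.W_R hx b⟩,
      ⟨x + C.R b x, add_mem hx (C.W_R hx b)⟩] : Fin 4 → ↥(C.W f)) := by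
    intro i j e
    have e' := congrArg Subtype.val e
    fin_cases i <;> fin_cases j <;>
      simp_all [add_eq_left, add_eq_right, eq_comm]
  simpa using Nat.card_le_card_of_injective _ hinj

theorem cards : Nat.card ↥(C.W (line 0)) = 4 ∧ Nat.card ↥C.Fix0 = 1 ∧
    ∀ l : Fin 40, 10 ≤ l.val → Nat.card ↥(C.W (line l)) = 1 := by
  haveI : Finite V := Nat.finite_of_card_ne_zero (by rw [C.card]; norm_num)
  set w : Fin 40 → ℕ := fun l => Nat.card ↥(C.W (line l)) with hw
  have hpos : ∀ l, 1 ≤ w l := fun l => Nat.card_pos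
  have hprod := C.card_decomp
  have hA : ∀ k : Fin 15, w 10 ≤ w ⟨10 + k.val, by omega⟩ := fun k => C.card_W_le (orbA k)
  have hB : ∀ k : Fin 10, w 0 ≤ w (k.castLE (by norm_num)) := fun k => C.card_W_le (orbB k)
  have hC : ∀ k : Fin 15, w 25 ≤ w ⟨25 + k.val, by omega⟩ := fun k => C.card_W_le (orbC k)
  have hA' : ∀ k : Fin 15, w ⟨10 + k.val, by omega⟩ ≤ w 10 := fun k => by
    refine C.card_W_le (σ := (sigA k)⁻¹) fun a => ?_
    have := orbA k (permA (sigA k)⁻¹ a)
    rwa [permA_mul_inv, Iff.comm] at this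
  have hB' : ∀ k : Fin 10, w (k.castLE (by norm_num)) ≤ w 0 := fun k => by
    refine C.card_W_le (σ := (sig k)⁻¹) fun a => ?_
    have := orbB k (permA (sig k)⁻¹ a)
    rwa [permA_mul_inv, Iff.comm] at this
  have hC' : ∀ k : Fin 15, w ⟨25 + k.val, by omega⟩ ≤ w 25 := fun k => by
    refine C.card_W_le (σ := (sigC k)⁻¹) fun a => ?_
    have := orbC k (permA (sigC k)⁻¹ a)
    rwa [permA_mul_inv, Iff.comm] at this
  have hfull : ∏ l, w l = w 0 ^ 10 * w 10 ^ 15 * w 25 ^ 15 := by
    have e : ∀ l : Fin 40, w l = if l.val < 10 then w 0 else if l.val < 25 then w 10 else w 25 := by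
      intro l
      split_ifs with h1 h2
      · exact le_antisymm (hB' ⟨l.val, h1⟩) (hB ⟨l.val, h1⟩)
      · have el : l = ⟨10 + (l.val - 10), by omega⟩ := Fin.ext (by simp; omega)
        rw [el]; exact le_antisymm (hA' ⟨_, by omega⟩) (hA ⟨_, by omega⟩)
      · have el : l = ⟨25 + (l.val - 25), by omega⟩ := Fin.ext (by simp; omega)
        rw [el]; exact le_antisymm (hC' ⟨_, by omega⟩) (hC ⟨_, by omega⟩)
    rw [Finset.prod_congr rfl fun l _ => e l,
      Fin.prod_univ_eq_prod_range (fun n => if n < 10 then w 0 else if n < 25 then w 10 else w 25) 40]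
    have h1 : ∀ n ∈ Finset.range 10,
        (if n < 10 then w 0 else if n < 25 then w 10 else w 25) = w 0 := fun n hn => by
      simp [Finset.mem_range.1 hn]
    have h2 : ∀ n ∈ Finset.Ico 10 25,
        (if n < 10 then w 0 else if n < 25 then w 10 else w 25) = w 10 := fun n hn => by
      obtain ⟨a, b⟩ := Finset.mem_Ico.1 hn
      simp [not_lt.2 a, b]
    have h3 : ∀ n ∈ Finset.Ico 25 40,
        (if n < 10 then w 0 else if n < 25 then w 10 else w 25) = w 25 := fun n hn => by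
      obtain ⟨a, b⟩ := Finset.mem_Ico.1 hn
      simp [not_lt.2 a, not_lt.2 ((show 10 ≤ 25 by norm_num).trans a)]
    rw [← Finset.prod_range_mul_prod_Ico _ (show 10 ≤ 40 by norm_num),
      ← Finset.prod_Ico_consecutive _ (show 10 ≤ 25 by norm_num) (show 25 ≤ 40 by norm_num),
      Finset.prod_congr rfl h1, Finset.prod_congr rfl h2, Finset.prod_congr rfl h3]
    simp only [Finset.prod_const, Finset.card_range, Nat.card_Ico]
    rw [mul_assoc]
  change Nat.card ↥C.Fix0 * ∏ l, w l = _ at hprod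
  rw [hfull] at hprod
  have hc0 : 1 ≤ Nat.card ↥C.Fix0 := Nat.card_pos
  have hdiv : ∀ x m : ℕ, x ∣ 2 ^ 20 → 4 ≤ x → 15 ≤ m → ¬ (x ^ m ∣ 2 ^ 20) := by
    intro x m _ hx hm h
    have := (Nat.pow_le_pow_left hx m).trans (Nat.le_of_dvd (by norm_num) h)
    have h2 := (Nat.pow_le_pow_right (show 0 < 4 by norm_num) hm).trans this
    norm_num at h2
  have hbig : ∀ l, w l ≠ 1 → 4 ≤ w l := fun l h => by
    obtain ⟨b, hb⟩ := line_ne l
    refine C.four_le hb fun e => h ?_
    show Nat.card ↥(C.W (line l)) = 1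
    rw [e, AddSubgroup.card_bot]
  have h10 : w 10 = 1 := by
    by_contra h
    exact hdiv _ 15 (dvd_trans (dvd_pow_self _ (by norm_num)) (Dvd.intro_left _ ((by ring : Nat.card ↥C.Fix0 * w 0 ^ 10 * w 25 ^ 15 * w 10 ^ 15 = _).trans hprod))) (hbig _ h) le_rfl
      (Dvd.intro_left _ ((by ring : Nat.card ↥C.Fix0 * w 0 ^ 10 * w 25 ^ 15 * w 10 ^ 15 = _).trans hprod))
  rw [h10, one_pow, mul_one] at hprod
  have h25 : w 25 = 1 := by
    by_contra h
    have hd : w 25 ^ 15 ∣ 2 ^ 20 :=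
      Dvd.intro_left _ ((by ring : Nat.card ↥C.Fix0 * w 0 ^ 10 * w 25 ^ 15 = _).trans hprod)
    exact hdiv _ 15 (dvd_trans (dvd_pow_self _ (by norm_num)) hd) (hbig _ h) le_rfl hd
  rw [h25, one_pow, mul_one] at hprod
  have h0 : w 0 ≠ 1 := by
    intro h
    rw [h, one_pow, mul_one, ← C.card] at hprod
    have htop : C.Fix0 = ⊤ := AddSubgroup.eq_top_of_card_eq _ hprod
    have hz := C.faith (D e0) fun v => (show v ∈ C.Fix0 by rw [htop]; trivial) e0
    have := Subgroup.mem_center_iff.1 hz (P (Equiv.swap 0 3))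
    rw [P_D] at this
    have h2 := congrArg (fun g : SU 6 K 2 => (suMat g *ᵥ fun _ => (1 : K)) 0) this
    simp only [suMat_mulVec_mul, D_apply, P_apply] at h2
    exact absurd h2 (by decide +kernel)
  have h4 : w 0 = 4 := by
    refine le_antisymm ?_ (hbig 0 h0)
    by_contra hlt
    have : 5 ^ 10 ≤ 2 ^ 20 := by
      calc 5 ^ 10 ≤ w 0 ^ 10 := Nat.pow_le_pow_left (by omega) _
        _ ≤ 2 ^ 20 := Nat.le_of_dvd (by norm_num) (Dvd.intro_left _ hprod)
    norm_num at this
  refine ⟨h4, ?_, fun l hl => ?_⟩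
  · rw [h4, show (4 : ℕ) ^ 10 = 2 ^ 20 by norm_num] at hprod
    exact (Nat.mul_eq_right (by norm_num)).1 hprod
  · show w l = 1
    by_cases h2 : l.val < 25
    · have el : l = ⟨10 + (l.val - 10), by omega⟩ := Fin.ext (by simp; omega)
      rw [el]; exact le_antisymm ((hA' ⟨_, by omega⟩).trans h10.le) (hpos _)
    · have el : l = ⟨25 + (l.val - 25), by omega⟩ := Fin.ext (by simp; omega)
      rw [el]; exact le_antisymm ((hC' ⟨_, by omega⟩).trans h25.le) (hpos _)

theorem exists_x0 : ∃ x, x ∈ C.W (line 0) ∧ x ≠ 0 ∧ C.T flipP x = x := by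
  haveI : Finite V := Nat.finite_of_card_ne_zero (by rw [C.card]; norm_num)
  obtain ⟨x, hx⟩ : ∃ x : ↥(C.W (line 0)), x ≠ 0 := by
    haveI : Nontrivial ↥(C.W (line 0)) :=
      Finite.one_lt_card_iff_nontrivial.1 (by rw [C.cards.1]; norm_num)
    exact exists_ne 0
  have hW : C.T flipP x.1 ∈ C.W (line 0) :=
    C.T_W (by decide +kernel) x.2
  have hne : x.1 ≠ 0 := fun e => hx (Subtype.ext e)
  by_cases h : x.1 + C.T flipP x.1 = 0
  · exact ⟨x.1, x.2, hne, (eq_neg_of_add_eq_zero_right h).trans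
      (neg_eq_of_add_eq_zero_right (C.two _))⟩
  · refine ⟨_, add_mem x.2 hW, h, ?_⟩
    rw [map_add, ← C.T_mul, show flipP * flipP = 1 by decide, C.T_one, add_comm]

/-- The base vector. -/
noncomputable def x0 : V := Classical.choose C.exists_x0

theorem x0_spec : C.x0 ∈ C.W (line 0) ∧ C.x0 ≠ 0 ∧ C.T flipP C.x0 = C.x0 :=
  Classical.choose_spec C.exists_x0

/-- The base plane. -/
noncomputable def psi (c : ℕ) : V := comb [C.x0, C.R e0 C.x0] c

theorem psi_mem (c : ℕ) : C.psi c ∈ C.W (line 0) := by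
  simp only [psi, comb, add_zero]
  refine add_mem ?_ ?_ <;> split_ifs
  exacts [C.x0_spec.1, zero_mem _, C.W_R C.x0_spec.1 _, zero_mem _]

theorem R_eq_of_dot {a b : Cv} (h : dot (line 0) a = dot (line 0) b) {x : V}
    (hx : x ∈ C.W (line 0)) : C.R a x = C.R b x := by
  have h0 : dot (line 0) (a - b) = 0 := by
    have := dot_add (line 0) (a - b) b
    rw [sub_add_cancel, h] at this
    exact right_eq_add.1 this
  conv_lhs => rw [← sub_add_cancel a b]
  rw [R_add, (C.W_R hx b _).1 h0]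

theorem psi_vals : C.psi 0 = 0 ∧ C.psi 1 = C.x0 ∧ C.psi 2 = C.R e0 C.x0 ∧
    C.psi 3 = C.x0 + C.R e0 C.x0 := by
  simp [psi, comb]

theorem R_psi (a : Cv) {c : ℕ} (hc : c < 4) :
    C.R a (C.psi c) = C.psi (mulC (dot (line 0) a) c) := by
  have hx := C.x0_spec.1
  obtain ⟨p0, p1, p2, p3⟩ := C.psi_vals
  have h2 : C.R e0 (C.R e0 C.x0) = C.x0 + C.R e0 C.x0 := by
    rw [← R_add]
    exact (eq_neg_of_add_eq_zero_right ((hx e0).2 (by rw [dot_e0]; decide))).trans
      (neg_eq_of_add_eq_zero_right (C.two _))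
  have key : ∀ d < 4, C.R e0 (C.psi d) = C.psi (mulC 1 d) := by
    intro d hd
    interval_cases d
    · rw [show mulC 1 0 = 0 from rfl, p0, map_zero]
    · rw [show mulC 1 1 = 2 from rfl, p1, p2]
    · rw [show mulC 1 2 = 3 from rfl, p2, p3, h2]
    · rw [show mulC 1 3 = 1 from rfl, p1, p3, map_add, h2, add_comm C.x0, ← add_assoc, C.two,
        zero_add]
  obtain ⟨t, ht⟩ : ∃ t, dot (line 0) a = t := ⟨_, rfl⟩
  rw [C.R_eq_of_dot (b := aOf t) (by rw [ht, dot_aOf]) (C.psi_mem c), ht]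
  rcases zmod3 t with rfl | rfl | rfl
  · rw [show aOf 0 = 0 from rfl, C.R_zero, mulC_zero c hc]
  · exact key c hc
  · rw [show aOf 2 = e0 + e0 from rfl, R_add, key c hc, key _ (mulC_lt 1 c hc), mulC_two c hc]

theorem psi_ne : ∀ d < 4, d ≠ 0 → C.psi d ≠ 0 := by
  intro d hd h0 e
  have hx := C.x0_spec
  have hne : dot (line 0) e0 ≠ 0 := by rw [dot_e0]; decide
  obtain ⟨p0, p1, p2, p3⟩ := C.psi_vals
  interval_cases d
  · exact h0 rfl
  · exact hx.2.1 (p1 ▸ e)
  · rw [p2] at e
    have := (hx.1 e0).2 hne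
    rw [R_add, e, map_zero, add_zero, add_zero] at this
    exact hx.2.1 this
  · rw [p3] at e
    exact hx.2.1 (C.fpf hx.1 hne ((eq_neg_of_add_eq_zero_right e).trans
      (neg_eq_of_add_eq_zero_right (C.two _))))

theorem psi_surj : ∀ y ∈ C.W (line 0), ∃ d < 4, y = C.psi d := by
  haveI : Finite V := Nat.finite_of_card_ne_zero (by rw [C.card]; norm_num)
  intro y hy
  have hinj : Function.Injective
      (fun d : Fin 4 => (⟨C.psi d, C.psi_mem d⟩ : ↥(C.W (line 0)))) := by
    intro i j e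
    have e' : C.psi i = C.psi j := congrArg Subtype.val e
    by_contra hij
    refine C.psi_ne (i.val ^^^ j.val) (Nat.xor_lt_two_pow (n := 2) i.isLt j.isLt) ?_ ?_
    · exact fun h => hij (Fin.ext (Nat.xor_eq_zero_iff.1 h))
    · rw [psi, comb_xor C.two]
      exact (congrArg (· + C.psi j) e').trans (C.two _)
  obtain ⟨d, hd⟩ := ((Nat.bijective_iff_injective_and_card _).2
    ⟨hinj, by rw [C.cards.1]; simp⟩).2 ⟨y, hy⟩
  exact ⟨d.val, d.isLt, (congrArg Subtype.val hd).symm⟩

theorem swap_fix (τ : Equiv.Perm (Fin 6)) (hτ : τ * τ = 1)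
    (h : ∀ a, dot (line 0) (permA τ a) = dot (line 0) a) {c : ℕ} (hc : c < 4) :
    C.T τ (C.psi c) = C.psi c := by
  haveI : Finite V := Nat.finite_of_card_ne_zero (by rw [C.card]; norm_num)
  have hW : ∀ {y}, y ∈ C.W (line 0) → C.T τ y ∈ C.W (line 0) :=
    fun hy => C.T_W (fun a => by rw [h]) hy
  have hcomm : ∀ (a : Cv) {y}, y ∈ C.W (line 0) → C.T τ (C.R a y) = C.R a (C.T τ y) :=
    fun a y hy => by rw [C.T_R]; exact C.R_eq_of_dot (h a) (hW hy)
  have hx := C.x0_spec
  have hsurj := C.psi_surj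
  have h0 : C.T τ C.x0 = C.x0 := by
    obtain ⟨d, hd, e⟩ := hsurj _ (hW hx.1)
    have e1 : C.psi 1 = C.x0 := by simp [psi, comb]
    have hsq : C.T τ (C.T τ C.x0) = C.x0 := by rw [← C.T_mul, hτ, C.T_one]
    obtain ⟨t, ht, rfl⟩ : ∃ t : ZMod 3, d ≠ 0 ∧ d = mulC t 1 := by
      have h0 : d ≠ 0 := fun d0 => hx.2.1 <| by
        subst d0; rw [show C.psi 0 = 0 from comb_zero _] at e
        exact C.T_inj τ (e.trans (map_zero _).symm)
      interval_cases d
      · exact absurd rfl h0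
      · exact ⟨0, by norm_num, rfl⟩
      · exact ⟨1, by norm_num, rfl⟩
      · exact ⟨2, by norm_num, rfl⟩
    set a : Cv := aOf t
    have ha : dot (line 0) a = t := dot_aOf t
    have e' : C.T τ C.x0 = C.R a C.x0 := by
      rw [e, ← e1, C.R_psi a (by norm_num : 1 < 4), ha]
    rw [e', hcomm a hx.1, e', ← R_add] at hsq
    by_cases ht0 : t = 0
    · rw [e', (hx.1 a).1 (ha.trans ht0)]
    · exact absurd (C.fpf hx.1 (by rw [dot_add, ha]; exact zmod3_double t ht0) hsq) hx.2.1
  simp only [psi, map_comb, List.map_cons, List.map_nil, hcomm e0 hx.1, h0]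

/-- Permutations fixing the base plane pointwise. -/
def Good (σ : Equiv.Perm (Fin 6)) : Prop := ∀ c < 4, C.T σ (C.psi c) = C.psi c

theorem good_mul {σ τ : Equiv.Perm (Fin 6)} (hσ : C.Good σ) (hτ : C.Good τ) : C.Good (σ * τ) :=
  fun c hc => by rw [C.T_mul, hτ c hc, hσ c hc]

theorem good_sym (u v : Fin 6) : C.Good (sym3 u * sym3' v) := by
  have h1 : C.Good 1 := fun c _ => C.T_one _
  have a : C.Good (Equiv.swap 0 1) := fun c => C.swap_fix _ (by decide) (by decide +kernel)
  have b : C.Good (Equiv.swap 1 2) := fun c => C.swap_fix _ (by decide) (by decide +kernel)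
  have a' : C.Good (Equiv.swap 3 4) := fun c => C.swap_fix _ (by decide) (by decide +kernel)
  have b' : C.Good (Equiv.swap 4 5) := fun c => C.swap_fix _ (by decide) (by decide +kernel)
  refine C.good_mul ?_ ?_
  · fin_cases u
    exacts [h1, a, b, C.good_mul a b, C.good_mul b a, C.good_mul (C.good_mul a b) a]
  · fin_cases v
    exacts [h1, a', b', C.good_mul a' b', C.good_mul b' a', C.good_mul (C.good_mul a' b') a']

theorem flip_psi {c : ℕ} (hc : c < 4) : C.T flipP (C.psi c) = C.psi (conjC true c) := by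
  have h := C.x0_spec
  have hd : dot (line 0) (permA flipP e0) = 2 := by decide +kernel
  have hR : C.T flipP (C.R e0 C.x0) = C.x0 + C.R e0 C.x0 := by
    rw [C.T_R, h.2.2, C.R_eq_of_dot (b := e0 + e0) (by rw [hd, dot_add, dot_e0]; decide) h.1]
    exact (eq_neg_of_add_eq_zero_right ((h.1 e0).2 (by rw [dot_e0]; decide))).trans
      (neg_eq_of_add_eq_zero_right (C.two _))
  simp only [psi, map_comb, List.map_cons, List.map_nil, hR, h.2.2]
  interval_cases c <;> simp [comb, conjC]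
  rw [← add_assoc, C.two, zero_add]

/-- The basis. -/
noncomputable def B : List V :=
  (List.finRange 10).flatMap fun j => [C.T (sig j) C.x0, C.T (sig j) (C.R e0 C.x0)]

/-- The coordinate map. -/
noncomputable def Φ (x : ℕ) : V := comb C.B x

theorem Phi_slot (j : Fin 10) {c : ℕ} (hc : c < 4) :
    C.Φ (c * 4 ^ j.val) = C.T (sig j) (C.psi c) := by
  rw [Φ, B, comb_pairs (fun j => (C.T (sig j) C.x0, C.T (sig j) (C.R e0 C.x0))) _ j.val
    (by simp) c hc, psi, map_comb]
  simp

theorem Phi_xor (x y : ℕ) : C.Φ (x ^^^ y) = C.Φ x + C.Φ y := comb_xor C.two _ x y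

theorem Phi_T (i : Fin 5) (x : ℕ) : C.T (adj i) (C.Φ x) = C.Φ (app (colP (adj i)) x) := by
  set σ := adj i with hσ
  refine comb_intertwine C.two C.B _ _ ?_ x
  simp only [B, colP, List.map_flatMap, List.map_cons, List.map_nil]
  refine List.flatMap_congr fun j _ => ?_
  have key : ∀ c < 4, C.T σ (C.T (sig j) (C.psi c)) =
      C.Φ (conjC (flips σ j) c * 4 ^ (jimg σ j).val) := by
    intro c hc
    obtain ⟨u, v, huv⟩ := stab_factor i j
    rw [← hσ] at huv
    have e : σ * sig j =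
        sig (jimg σ j) * ((if flips σ j then flipP else 1) * sym3 u * sym3' v) := by
      rw [← huv]; group
    rw [← C.T_mul, e, mul_assoc (if flips σ j then flipP else 1), C.T_mul, C.T_mul, C.good_sym u v c hc,
      C.Phi_slot _ (conjC_lt _ c hc)]
    cases flips σ j
    · simp [T_one, conjC]
    · simp [C.flip_psi hc]
  have e1 : C.psi 1 = C.x0 := by simp [psi, comb]
  have e2 : C.psi 2 = C.R e0 C.x0 := by simp [psi, comb]
  have k1 := key 1 (by norm_num)
  have k2 := key 2 (by norm_num)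
  simp only [Φ, B, e1, e2] at k1 k2
  exact congrArg₂ (fun p q => [p, q]) k1 k2

theorem Phi_R (a : Cv) (x : ℕ) : C.R a (C.Φ x) = C.Φ (app (colD a) x) := by
  refine comb_intertwine C.two C.B _ _ ?_ x
  simp only [B, colD, List.map_flatMap, List.map_cons, List.map_nil]
  refine List.flatMap_congr fun j _ => ?_
  have key : ∀ c < 4, C.R a (C.T (sig j) (C.psi c)) = C.Φ (mulC (wt j a) c * 4 ^ j.val) := by
    intro c hc
    conv_lhs => rw [← permA_mul_inv (sig j) a, ← C.T_R, C.R_psi _ hc, wt_sig]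
    rw [C.Phi_slot _ (mulC_lt _ c hc)]
  have e1 : C.psi 1 = C.x0 := by simp [psi, comb]
  have e2 : C.psi 2 = C.R e0 C.x0 := by simp [psi, comb]
  have k1 := key 1 (by norm_num)
  have k2 := key 2 (by norm_num)
  simp only [Φ, B, e1, e2] at k1 k2
  exact congrArg₂ (fun p q => [p, q]) k1 k2

theorem Phi_surj (v : V) : ∃ x < 2 ^ 20, C.Φ x = v := by
  haveI : Finite V := Nat.finite_of_card_ne_zero (by rw [C.card]; norm_num)
  have hmem : v ∈ AddSubgroup.closure {x | x ∈ C.B} := by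
    set S := AddSubgroup.closure {x | x ∈ C.B}
    rw [C.spanning v]
    refine add_mem ?_ (sum_mem fun l _ => ?_)
    · have hb : C.Fix0 = ⊥ := AddSubgroup.eq_bot_of_card_eq _ C.cards.2.1
      have := C.p0_fix v
      rw [hb, AddSubgroup.mem_bot] at this
      rw [this]; exact zero_mem _
    · by_cases hl : 10 ≤ l.val
      · have hb : C.W (line l) = ⊥ := AddSubgroup.eq_bot_of_card_eq _ (C.cards.2.2 l hl)
        have := C.q_mem (line l) v
        rw [hb, AddSubgroup.mem_bot] at this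
        rw [this]; exact zero_mem _
      · set j : Fin 10 := ⟨l.val, by omega⟩
        have hl' : line l = line (j.castLE (by norm_num)) := rfl
        rw [hl']
        set y := C.p (line (j.castLE (by norm_num))) v + C.p0 v
        have hy : C.T (sig j)⁻¹ y ∈ C.W (line 0) :=
          C.T_W (fun a => by rw [wt_sig]; rfl) (C.q_mem _ v)
        obtain ⟨d, hd, e⟩ := C.psi_surj _ hy
        have : y = C.T (sig j) (C.psi d) := by rw [← e, ← C.T_mul, mul_inv_cancel, C.T_one]
        rw [this, psi, map_comb]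
        have hm : ∀ u ∈ [C.T (sig j) C.x0, C.T (sig j) (C.R e0 C.x0)], u ∈ S := fun u hu =>
          AddSubgroup.subset_closure (by
            simp only [B, Set.mem_ofPred_eq, List.mem_flatMap]
            exact ⟨j, List.mem_finRange j, hu⟩)
        simp only [List.map_cons, List.map_nil, comb, add_zero]
        refine add_mem ?_ ?_ <;> split_ifs
        exacts [hm _ (by simp), zero_mem _, hm _ (by simp), zero_mem _]
  obtain ⟨x, hx, e⟩ := exists_comb_of_mem_closure C.two C.B hmem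
  refine ⟨x, ?_, e⟩
  rw [show C.B.length = 20 by simp [B, List.length_flatMap]] at hx
  exact hx

theorem Phi_inj {x y : ℕ} (hx : x < 2 ^ 20) (hy : y < 2 ^ 20) (h : C.Φ x = C.Φ y) : x = y := by
  haveI : Finite V := Nat.finite_of_card_ne_zero (by rw [C.card]; norm_num)
  have hs : Function.Surjective (fun x : Fin (2 ^ 20) => C.Φ x.val) := fun v => by
    obtain ⟨x, hx, e⟩ := C.Phi_surj v; exact ⟨⟨x, hx⟩, e⟩
  have hb := (Nat.bijective_iff_surjective_and_card _).2 ⟨hs, by rw [C.card, Nat.card_fin]⟩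
  exact congrArg Fin.val (@hb.1 ⟨x, hx⟩ ⟨y, hy⟩ h)

end Ctx

end H61.U6M
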