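/-
Certificate data for the identification of the extra transvection.
-/
import Mathlib

set_option autoImplicit false

namespace H61.U6M

/-- Fixed space, block six. -/
def sixKer : List ℕ := [16, 64, 87040]

/-- Coordinates in the fixed space, block six. -/
def sixSel : List ℕ := [0, 0, 0, 0, 1, 0, 2, 0, 0, 0, 0, 0, 0, 0, 0, 0, 4, 0, 0, 0]

/-- Correction maps, block six. -/
def sixCor : List (List ℕ) :=
  [[0, 0, 0, 0, 0, 0, 0, 0, 0, 0, 0, 0, 0, 0, 0, 0, 0, 0, 0, 0],
   [0, 0, 0, 0, 0, 0, 0, 0, 0, 0, 0, 0, 0, 0, 16384, 0, 21504, 10240, 0, 0],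
   [0, 0, 0, 0, 32, 0, 128, 0, 0, 0, 0, 0, 17408, 2048, 32768, 0, 141312, 0, 0, 0],
   [1, 2, 4, 8, 0, 0, 0, 0, 256, 512, 0, 0, 0, 0, 0, 0, 0, 0, 262144, 524288]]

/-- Fixed space, block four. -/
def fourKer : List ℕ := [261, 522, 262144, 524288]

/-- Coordinates in the fixed space, block four. -/
def fourSel : List ℕ := [0, 0, 0, 0, 0, 0, 0, 0, 1, 2, 0, 0, 0, 0, 0, 0, 0, 0, 4, 8]

/-- Correction maps, block four. -/
def fourCor : List (List ℕ) :=
  [[0, 0, 0, 0, 0, 0, 0, 0, 5, 10, 0, 0, 0, 0, 0, 0, 0, 0, 0, 0],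
   [0, 0, 1, 2, 0, 0, 0, 0, 0, 0, 0, 0, 0, 0, 0, 0, 0, 0, 0, 0],
   [0, 0, 0, 0, 0, 0, 0, 0, 0, 0, 0, 0, 0, 0, 0, 0, 0, 0, 0, 0],
   [0, 0, 0, 0, 48, 16, 128, 192, 0, 0, 3072, 1024, 8192, 12288, 49152, 16384, 131072, 196608, 0, 0]]

/-- Transport data: block, word, twist. -/
def slots : List (Bool × List (Fin 5) × Bool) :=
  [(true, [2, 1, 0], true), (true, [1, 0], true), (false, [], false), (false, [4], false), (true, [0], true), (false, [1], false), (false, [4, 1], false), (false, [2, 1], false), (false, [4, 2, 1], false), (true, [], false)]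

/-- Columns of the extra transvection. -/
def Scol : List ℕ := [262404, 786952, 262401, 786946, 87056, 243744, 87104, 191616, 262149, 786442, 83024, 231648, 86096, 188592, 21584, 47328, 70736, 142512, 261, 783]

end H61.U6M
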