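/-
The action of the extra transvection is forced.
-/
import Cfsg.Agent.H61.U6M.Basis
import Cfsg.Agent.H61.U6M.IdentData

set_option autoImplicit false
set_option linter.unusedSectionVars false

namespace H61.U6M

open Matrix Cfsg H50

/-- Apply a word of adjacent transpositions to a code. -/
def appW : List (Fin 5) → ℕ → ℕ
  | [], x => x
  | i :: w, x => app (colP (adj i)) (appW w x)

/-- The element of a word. -/
def elW : List (Fin 5) → SU 6 K 2
  | [] => 1
  | i :: w => P (adj i) * elW w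

theorem appW_lt : ∀ (w : List (Fin 5)) {x : ℕ}, x < 2 ^ 20 → appW w x < 2 ^ 20
  | [], _, h => h
  | i :: _, _, _ => app_lt _ (by revert i; decide +kernel) _

theorem appW_xor : ∀ (w : List (Fin 5)) (x y : ℕ), appW w (x ^^^ y) = appW w x ^^^ appW w y
  | [], _, _ => rfl
  | i :: w, x, y => by simp only [appW, appW_xor w, app_xor]

theorem colD_lt (a : Cv) : ∀ c ∈ colD a, c < 2 ^ 20 := by
  have key : ∀ t : ZMod 3, ∀ j : Fin 10, mulC t 1 * 4 ^ j.val < 2 ^ 20 ∧
      mulC t 2 * 4 ^ j.val < 2 ^ 20 := by decide +kernel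
  intro c hc
  simp only [colD, List.mem_flatMap] at hc
  obtain ⟨j, -, hc⟩ := hc
  simp only [List.mem_cons, List.not_mem_nil, or_false] at hc
  rcases hc with rfl | rfl
  exacts [(key _ j).1, (key _ j).2]

/-- Exponents of a diagonal element commuting with the transvection. -/
def d0 : Cv := ![1, 1, 1, 1, 0]

/-- Exponents of the diagonal element in the relator. -/
def a5 : Cv := ![1, 2, 0, 0, 0]

theorem S_comm_P : ∀ i : Fin 5, i ≠ 3 → P (adj i) * S = S * P (adj i) := by
  intro i hi
  refine SU_ext ?_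
  revert hi
  revert i
  decide +kernel

theorem S_comm_D : D d0 * S = S * D d0 := SU_ext (by decide +kernel)

theorem relator : P (adj 3) * D a5 * S * (P (adj 3) * D a5 * S) * (P (adj 3) * D a5 * S) *
    (P (adj 3) * D a5 * S) * (P (adj 3) * D a5 * S) = 1 := SU_ext (by decide +kernel)

theorem colP_three : colP (adj 3) = [1, 2, 16, 32, 4, 8, 64, 128, 1024, 2048, 256, 512, 4096, 8192, 16384, 32768, 262144, 524288, 65536, 131072] := by decide +kernel

theorem colD_five : colD a5 = [1, 2, 4, 8, 16, 32, 64, 128, 512, 768, 2048, 3072, 8192, 12288, 32768, 49152, 131072, 196608, 524288, 786432] := by decide +kernel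

/-- Equality of additive maps of codes from the unit vectors. -/
theorem lin_ext {f g : ℕ → ℕ} (hf : ∀ x y, f (x ^^^ y) = f x ^^^ f y)
    (hg : ∀ x y, g (x ^^^ y) = g x ^^^ g y) :
    ∀ n : ℕ, (∀ i < n, f (2 ^ i) = g (2 ^ i)) → ∀ x < 2 ^ n, f x = g x := by
  intro n
  induction n with
  | zero =>
    intro _ x hx
    obtain rfl : x = 0 := by simpa using hx
    have e1 := hf 0 0; have e2 := hg 0 0
    simp at e1 e2
    rw [e1, e2]
  | succ n ih =>
    intro h x hx
    have ih' := ih (fun i hi => h i (Nat.lt_succ_of_lt hi))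
    by_cases hx' : x < 2 ^ n
    · exact ih' x hx'
    · have hlt : x ^^^ 2 ^ n < 2 ^ n := by
        refine Nat.lt_of_testBit n ?_ (Nat.testBit_two_pow_self) fun j hj => ?_
        · rw [Nat.testBit_xor, Nat.testBit_two_pow_self]
          have : x.testBit n = true := Nat.testBit_eq_decide_div_mod_eq.trans (by
            rw [decide_eq_true_eq, show x / 2 ^ n = 1 from
              Nat.div_eq_of_lt_le (by omega) (by rw [pow_succ] at hx; omega)])
          rw [this]; rfl
        · rw [Nat.testBit_xor, Nat.testBit_eq_false_of_lt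
            (lt_of_lt_of_le hx (Nat.pow_le_pow_right (by norm_num) hj)),
            Nat.testBit_two_pow_of_ne (by omega)]
          rfl
      have e : x ^^^ 2 ^ n ^^^ 2 ^ n = x := by rw [Nat.xor_assoc, Nat.xor_self, Nat.xor_zero]
      conv_lhs => rw [← e]
      conv_rhs => rw [← e]
      rw [hf, hg, ih' _ hlt, h n (Nat.lt_succ_self n)]

/-- The operators cutting out the six block. -/
def op6 : ℕ → ℕ → ℕ
  | 0, x => x ^^^ appW [0] x
  | 1, x => x ^^^ appW [2] x
  | 2, x => x ^^^ appW [0, 1, 0, 1, 2, 1, 4] x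
  | _, x => x ^^^ app (colD d0) x ^^^ app (colD d0) (app (colD d0) x)

/-- The operators cutting out the four block. -/
def op4 : ℕ → ℕ → ℕ
  | 0, x => x ^^^ appW [1] x
  | 1, x => x ^^^ appW [2] x
  | 2, x => x ^^^ appW [4] x
  | _, x => x ^^^ app (colD d0) x

/-- Correction sum. -/
def corr (op : ℕ → ℕ → ℕ) (C : List (List ℕ)) (x : ℕ) : ℕ :=
  app (C.getD 0 []) (op 0 x) ^^^ app (C.getD 1 []) (op 1 x) ^^^ app (C.getD 2 []) (op 2 x) ^^^
    app (C.getD 3 []) (op 3 x)

theorem op6_xor : ∀ i x y, op6 i (x ^^^ y) = op6 i x ^^^ op6 i y := by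
  intro i x y
  rcases i with _ | _ | _ | i <;> simp only [op6, appW_xor, app_xor] <;>
    ac_rfl

theorem op4_xor : ∀ i x y, op4 i (x ^^^ y) = op4 i x ^^^ op4 i y := by
  intro i x y
  rcases i with _ | _ | _ | i <;> simp only [op4, appW_xor, app_xor] <;>
    ac_rfl

theorem six_decomp {x : ℕ} (hx : x < 2 ^ 20) :
    x = app sixKer (app sixSel x) ^^^ corr op6 sixCor x := by
  refine lin_ext (f := fun x => x) (g := fun x => app sixKer (app sixSel x) ^^^ corr op6 sixCor x)
    (fun _ _ => rfl) (fun a b => ?_) 20 (by decide +kernel) x hx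
  simp only [corr, op6_xor, app_xor]
  ac_rfl

theorem four_decomp {x : ℕ} (hx : x < 2 ^ 20) :
    x = app fourKer (app fourSel x) ^^^ corr op4 fourCor x := by
  refine lin_ext (f := fun x => x) (g := fun x => app fourKer (app fourSel x) ^^^ corr op4 fourCor x)
    (fun _ _ => rfl) (fun a b => ?_) 20 (by decide +kernel) x hx
  simp only [corr, op4_xor, app_xor]
  ac_rfl

/-- Images of the two basis vectors of a slot. -/
def slotImg (m p q : ℕ) (s : Bool × List (Fin 5) × Bool) : List ℕ :=
  let x := if s.1 then app fourKer p else app sixKer m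
  let y := if s.1 then app fourKer q else app (colD d0) (app (colD d0) (app sixKer m))
  let u := appW s.2.1 x
  let v := appW s.2.1 y
  [u, if s.2.2 then u ^^^ v else v]

/-- A candidate for the columns of the transvection. -/
def cand (m p q : ℕ) : List ℕ := slots.flatMap (slotImg m p q)

/-- The relator word on codes. -/
def relW (M : List ℕ) (x : ℕ) : ℕ := app [1, 2, 16, 32, 4, 8, 64, 128, 1024, 2048, 256, 512, 4096, 8192, 16384, 32768, 262144, 524288, 65536, 131072] (app [1, 2, 4, 8, 16, 32, 64, 128, 512, 768, 2048, 3072, 8192, 12288, 32768, 49152, 131072, 196608, 524288, 786432] (app M x))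

/-- The test of the relator on a candidate. -/
def relOK (M : List ℕ) : Bool :=
  (List.range 20).all fun i => relW M (relW M (relW M (relW M (relW M (2 ^ i))))) == 2 ^ i

/-- A candidate fails the relator or is the right one. -/
def chk (m p q : ℕ) : Bool := !(relOK (cand m p q)) || (cand m p q == Scol)

theorem chk_all : ((List.range 8).all fun m => (List.range 16).all fun p =>
    (List.range 16).all fun q => chk m p q) = true := by
  decide +kernel

theorem cand_unique {m p q : ℕ} (hm : m < 8) (hp : p < 16) (hq : q < 16)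
    (h : relOK (cand m p q) = true) : cand m p q = Scol := by
  have := List.all_eq_true.1 (List.all_eq_true.1 (List.all_eq_true.1 chk_all m
    (List.mem_range.2 hm)) p (List.mem_range.2 hp)) q (List.mem_range.2 hq)
  simpa [chk, h] using this

theorem slots_ok : ∀ j : Fin 10,
    let s := slots.getD j.val (false, [], false)
    let b := if s.1 then 9 else 2
    (∀ i ∈ s.2.1, i ≠ 3) ∧ appW s.2.1 (4 ^ b) = 4 ^ j.val ∧
      appW s.2.1 (2 * 4 ^ b) = (if s.2.2 then 3 else 2) * 4 ^ j.val := by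
  decide +kernel

theorem slots_list : slots = (List.finRange 10).map fun j => slots.getD j.val (false, [], false) := by
  decide +kernel

theorem six_omega : app (colD d0) (app (colD d0) (4 ^ 2)) = 2 * 4 ^ 2 := by decide +kernel

namespace Ctx

variable {V : Type*} [AddCommGroup V] (C : Ctx V)

theorem Phi_W : ∀ (w : List (Fin 5)) (x : ℕ), C.act (elW w) (C.Φ x) = C.Φ (appW w x)
  | [], x => C.one _
  | i :: w, x => by
    show C.act (P (adj i) * elW w) _ = _
    rw [C.mul, Phi_W w x]; exact C.Phi_T i _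

theorem S_comm_W : ∀ (w : List (Fin 5)), (∀ i ∈ w, i ≠ 3) → elW w * S = S * elW w
  | [], _ => by simp [elW]
  | i :: w, h => by
    show P (adj i) * elW w * S = S * (P (adj i) * elW w)
    rw [mul_assoc, S_comm_W w (fun k hk => h k (List.mem_cons_of_mem _ hk)), ← mul_assoc,
      S_comm_P i (h i (List.mem_cons_self ..)), mul_assoc]

theorem fixW {w : List (Fin 5)} (hw : ∀ i ∈ w, i ≠ 3) {b x : ℕ} (hb : appW w b = b)
    (hx : x < 2 ^ 20) (h : C.act S (C.Φ b) = C.Φ x) : x ^^^ appW w x = 0 := by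
  rw [Nat.xor_eq_zero_iff]
  refine C.Phi_inj hx (appW_lt w hx) ?_
  rw [← C.Phi_W, ← h, ← C.mul, S_comm_W w hw, C.mul, C.Phi_W, hb]

theorem Phi_D0 {b x : ℕ} (h : C.act S (C.Φ b) = C.Φ x) :
    C.act S (C.Φ (app (colD d0) b)) = C.Φ (app (colD d0) x) := by
  rw [← C.Phi_R, ← C.Phi_R, ← h, R, ← C.mul, ← C.mul, S_comm_D]

theorem six_shape {x : ℕ} (hx : x < 2 ^ 20) (h : C.act S (C.Φ (4 ^ 2)) = C.Φ x) :
    ∃ m < 8, x = app sixKer m := by
  have h0 := C.fixW (w := [0]) (by decide) (by decide +kernel) hx h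
  have h1 := C.fixW (w := [2]) (by decide) (by decide +kernel) hx h
  have h2 := C.fixW (w := [0, 1, 0, 1, 2, 1, 4]) (by decide) (by decide +kernel) hx h
  have h3 : x ^^^ app (colD d0) x ^^^ app (colD d0) (app (colD d0) x) = 0 := by
    have e1 := C.Phi_D0 h
    have e2 := C.Phi_D0 e1
    refine C.Phi_inj (Nat.xor_lt_two_pow (Nat.xor_lt_two_pow hx (app_lt _ (colD_lt _) _))
      (app_lt _ (colD_lt _) _)) (Nat.two_pow_pos _) ?_
    rw [C.Phi_xor, C.Phi_xor, ← h, ← e1, ← e2, ← map_add, ← map_add, ← C.Phi_xor, ← C.Phi_xor,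
      show 4 ^ 2 ^^^ app (colD d0) (4 ^ 2) ^^^ app (colD d0) (app (colD d0) (4 ^ 2)) = 0 by
        decide +kernel,
      show C.Φ 0 = 0 from comb_zero _, map_zero]
  refine ⟨app sixSel x, app_lt (n := 3) _ (by decide +kernel) _, ?_⟩
  conv_lhs => rw [six_decomp hx]
  simp only [corr, op6, h0, h1, h2, h3, app_zero, Nat.xor_zero]

theorem four_shape {b x : ℕ} (hb : b = 4 ^ 9 ∨ b = 2 * 4 ^ 9) (hx : x < 2 ^ 20)
    (h : C.act S (C.Φ b) = C.Φ x) : ∃ p < 16, x = app fourKer p := by
  have hb' : appW [1] b = b ∧ appW [2] b = b ∧ appW [4] b = b ∧ app (colD d0) b = b := by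
    rcases hb with rfl | rfl <;> decide +kernel
  have h0 := C.fixW (w := [1]) (by decide) hb'.1 hx h
  have h1 := C.fixW (w := [2]) (by decide) hb'.2.1 hx h
  have h2 := C.fixW (w := [4]) (by decide) hb'.2.2.1 hx h
  have h3 : x ^^^ app (colD d0) x = 0 := by
    rw [Nat.xor_eq_zero_iff]
    refine C.Phi_inj hx (app_lt _ (colD_lt _) _) ?_
    rw [← C.Phi_D0 h, hb'.2.2.2, h]
  refine ⟨app fourSel x, app_lt (n := 4) _ (by decide +kernel) _, ?_⟩
  conv_lhs => rw [four_decomp hx]
  simp only [corr, op4, h0, h1, h2, h3, app_zero, Nat.xor_zero]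

theorem Phi_S (x : ℕ) : C.act S (C.Φ x) = C.Φ (app Scol x) := by
  obtain ⟨x6, h6, e6⟩ := C.Phi_surj (C.act S (C.Φ (4 ^ 2)))
  obtain ⟨x9, h9, e9⟩ := C.Phi_surj (C.act S (C.Φ (4 ^ 9)))
  obtain ⟨y9, k9, f9⟩ := C.Phi_surj (C.act S (C.Φ (2 * 4 ^ 9)))
  obtain ⟨m, hm, rfl⟩ := C.six_shape h6 e6.symm
  obtain ⟨p, hp, rfl⟩ := C.four_shape (Or.inl rfl) h9 e9.symm
  obtain ⟨q, hq, rfl⟩ := C.four_shape (Or.inr rfl) k9 f9.symm
  have y6 : C.act S (C.Φ (2 * 4 ^ 2)) = C.Φ (app (colD d0) (app (colD d0) (app sixKer m))) := by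
    have := C.Phi_D0 (C.Phi_D0 e6.symm)
    rwa [six_omega] at this
  have hM : ∀ z, C.act S (C.Φ z) = C.Φ (app (cand m p q) z) := by
    intro z
    refine comb_intertwine C.two C.B _ _ ?_ z
    rw [cand, slots_list, List.flatMap_map, B, List.map_flatMap, List.map_flatMap]
    refine List.flatMap_congr fun j _ => ?_
    obtain ⟨hw, hu, hv⟩ := slots_ok j
    set s := slots.getD j.val (false, [], false)
    have e1 : C.T (sig j) C.x0 = C.Φ (1 * 4 ^ j.val) := by
      rw [C.Phi_slot j (by norm_num), C.psi_vals.2.1]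
    have e2 : C.T (sig j) (C.R e0 C.x0) = C.Φ (2 * 4 ^ j.val) := by
      rw [C.Phi_slot j (by norm_num), C.psi_vals.2.2.1]
    rw [one_mul] at e1
    have mv : ∀ {b y : ℕ}, C.act S (C.Φ b) = C.Φ y →
        C.act S (C.Φ (appW s.2.1 b)) = C.Φ (appW s.2.1 y) := fun {b y} h => by
      rw [← C.Phi_W, ← C.Phi_W, ← h, ← C.mul, ← C.mul, S_comm_W _ hw]
    have hx' : C.act S (C.Φ (4 ^ (if s.1 then 9 else 2))) =
        C.Φ (if s.1 then app fourKer p else app sixKer m) := by
      cases s.1
      · exact e6.symm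
      · exact e9.symm
    have hy' : C.act S (C.Φ (2 * 4 ^ (if s.1 then 9 else 2))) =
        C.Φ (if s.1 then app fourKer q else app (colD d0) (app (colD d0) (app sixKer m))) := by
      cases s.1
      · exact y6
      · exact f9.symm
    have r1 := mv hx'
    have r2 := mv hy'
    rw [hu] at r1
    rw [hv] at r2
    simp only [List.map_cons, List.map_nil, slotImg, e1, e2]
    refine congrArg₂ (fun a b => [a, b]) r1 ?_
    cases hs : s.2.2
    · rw [hs] at r2
      exact r2
    · rw [hs, if_pos rfl] at r2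
      rw [if_pos rfl]
      have e : 2 * 4 ^ j.val = 4 ^ j.val ^^^ 3 * 4 ^ j.val := by
        clear * -
        revert j; decide +kernel
      rw [e, C.Phi_xor, map_add, r1, r2, ← C.Phi_xor]
      rfl
  have hw : ∀ z, C.act (P (adj 3) * D a5 * S) (C.Φ z) = C.Φ (relW (cand m p q) z) := fun z => by
    rw [C.mul, C.mul, hM, show C.act (D a5) = C.R a5 from rfl, C.Phi_R,
      show C.act (P (adj 3)) = C.T (adj 3) from rfl, C.Phi_T, colP_three, colD_five]
    rfl
  have hall : relOK (cand m p q) = true := by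
    unfold relOK
    rw [List.all_eq_true]
    intro i hi
    rw [beq_iff_eq]
    refine C.Phi_inj (app_lt _ (by decide +kernel) _)
      (Nat.pow_lt_pow_right (by norm_num) (List.mem_range.1 hi)) ?_
    have := congrArg (fun g => C.act g (C.Φ (2 ^ i))) relator
    simp only [C.one] at this
    rw [← this, C.mul, C.mul, C.mul, C.mul, hw, hw, hw, hw, hw]
  rw [hM, cand_unique hm hp hq hall]

end Ctx

end H61.U6M
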