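/-
Every vector of the module is fixed by an element of order three.
-/
import Cfsg.Agent.H61.U6M.Ident
import Cfsg.Agent.H61.U6M.CheckA
import Cfsg.Agent.H61.U6M.CheckB
import Cfsg.Agent.H61.U6M.CheckC
import Cfsg.Agent.H61.U6M.CheckD

set_option autoImplicit false
set_option linter.unusedSectionVars false

namespace H61.U6M

open Matrix Cfsg H50

/-- Exponents of the seventh generator. -/
def a6 : Cv := ![1, 1, 1, 0, 0]

/-- The eight generators. -/
noncomputable def gel : Fin 8 → SU 6 K 2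
  | 5 => S
  | 6 => D a5
  | 7 => D a6
  | k => P (adj (Fin.ofNat 5 k.val))

theorem gtab_adj : ∀ i : Fin 5, gcol i.val = colP (adj i) := by decide +kernel
theorem gtab_S : gcol 5 = Scol := by decide +kernel
theorem gtab_D5 : gcol 6 = colD a5 := by decide +kernel
theorem gtab_D6 : gcol 7 = colD a6 := by decide +kernel

theorem gcol_lt : ∀ k : Fin 8, ∀ c ∈ gcol k.val, c < 2 ^ 20 := by decide +kernel

/-- Element of a word in the generators. -/
noncomputable def elG : List (Fin 8) → SU 6 K 2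
  | [] => 1
  | k :: w => gel k * elG w

/-- A word applied to a code. -/
def runW : List (Fin 8) → ℕ → ℕ
  | [], x => x
  | k :: w, x => app (gcol k.val) (runW w x)

theorem runW_lt : ∀ (w : List (Fin 8)) {x : ℕ}, x < 2 ^ 20 → runW w x < 2 ^ 20
  | [], _, h => h
  | k :: _, _, _ => app_lt _ (gcol_lt k) _

theorem runW_xor : ∀ (w : List (Fin 8)) (x y : ℕ), runW w (x ^^^ y) = runW w x ^^^ runW w y
  | [], _, _ => rfl
  | k :: w, x, y => by simp only [runW, runW_xor w, app_xor]

/-- Encoding of digits. -/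
def encD (c : ℕ → ℕ) : ℕ → ℕ
  | 0 => 0
  | k + 1 => encD c k ^^^ c k * 4 ^ k

theorem encD_mem {Sm : ℕ} {P : List (ℕ × ℕ)} {c : ℕ → ℕ} :
    ∀ k, (∀ j < k, c j ∈ opts Sm P j) → encD c k ∈ enumV Sm P k
  | 0, _ => by simp [encD, enumV]
  | k + 1, h => List.mem_flatMap.2 ⟨_, encD_mem k fun j hj => h j (by omega),
      List.mem_map.2 ⟨c k, h k (by omega), rfl⟩⟩

theorem foldl_and {α β : Type*} (f : β → α → Bool) (g : β → β) :
    ∀ (l : List α) (b : Bool) (s : β),
      (l.foldl (fun t x => (t.1 && f t.2 x, g t.2)) (b, s)).1 = true →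
        b = true ∧ ∀ x ∈ l, ∃ s', f s' x = true
  | [], b, s, h => ⟨h, fun x hx => absurd hx (List.not_mem_nil)⟩
  | a :: l, b, s, h => by
    obtain ⟨h1, h2⟩ := foldl_and f g l _ _ h
    rw [Bool.and_eq_true] at h1
    refine ⟨h1.1, fun x hx => ?_⟩
    rcases List.mem_cons.1 hx with rfl | hx
    · exact ⟨s, h1.2⟩
    · exact h2 x hx

theorem sup_all : ∀ q : Fin 16, ∀ r : Fin 64, q.val = 0 ∧ r.val = 0 ∨
    supOK (64 * q.val + r.val) = true := by
  intro q r
  fin_cases q
  · exact (sup0 r).imp (fun h => ⟨rfl, h⟩) id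
  · exact Or.inr (sup1 r)
  · exact Or.inr (sup2 r)
  · exact Or.inr (sup3 r)
  · exact Or.inr (sup4 r)
  · exact Or.inr (sup5 r)
  · exact Or.inr (sup6 r)
  · exact Or.inr (sup7 r)
  · exact Or.inr (sup8 r)
  · exact Or.inr (sup9 r)
  · exact Or.inr (sup10 r)
  · exact Or.inr (sup11 r)
  · exact Or.inr (sup12 r)
  · exact Or.inr (sup13 r)
  · exact Or.inr (sup14 r)
  · exact Or.inr (sup15 r)

/-- The exponent vector with a given code. -/
def cvOf (u : ℕ) : Cv := fun i => ((u / 3 ^ i.val % 3 : ℕ) : ZMod 3)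

theorem pivs_ok : ∀ Sm : Fin 1024, ∀ p ∈ pivsOf Sm.val, ∀ q ∈ pivsOf Sm.val, p.1 < 10 ∧
    wt (Fin.ofNat 10 p.1) (cvOf q.2) = if p = q then 1 else 0 := by
  decide +kernel

theorem pivs_nodup : ∀ Sm : Fin 1024, (pivsOf Sm.val).Nodup := by decide +kernel

/-- Exponent turning a nonzero digit to one. -/
def lg (d : ℕ) : ZMod 3 := if d = 2 then 2 else if d = 3 then 1 else 0

theorem mulC_lg : ∀ d < 4, d ≠ 0 → mulC (lg d) d = 1 := by decide +kernel

theorem mulC_ne : ∀ t : ZMod 3, ∀ d < 4, (mulC t d = 0 ↔ d = 0) := by decide +kernel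

theorem digit_mem : ∀ d < 4, d ≠ 0 → d ∈ [1, 2, 3] := by decide

/-- The support mask. -/
def mask (b : Fin 10 → Bool) : ℕ := ∑ j, if b j then 2 ^ j.val else 0

theorem mask_ok : ∀ b : Fin 10 → Bool, mask b < 1024 ∧ ∀ j : Fin 10, (mask b).testBit j.val = b j := by
  decide +kernel

theorem dot_smul (f : Fin 6 → ZMod 3) (t : ZMod 3) (a : Cv) :
    dot f (t • a) = t * dot f a := by
  have e : ext (t • a) = t • ext a := by
    funext i
    refine Fin.lastCases ?_ (fun j => ?_) i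
    · simp only [ext, Fin.snoc_last, Pi.smul_apply, smul_eq_mul, Finset.mul_sum]
      rw [← Finset.sum_neg_distrib, ← Finset.sum_neg_distrib, Finset.mul_sum]
      exact Finset.sum_congr rfl fun i _ => by ring
    · simp [ext]
  simp only [dot, e, Pi.smul_apply, smul_eq_mul, Finset.mul_sum]
  exact Finset.sum_congr rfl fun i _ => by ring

theorem xor_high (m r d : ℕ) (h : r < 2 ^ m) : r ^^^ d * 2 ^ m = r + 2 ^ m * d := by
  refine Nat.eq_of_testBit_eq fun i => ?_
  rw [add_comm, Nat.testBit_two_pow_mul_add d h, Nat.testBit_xor, mul_comm, Nat.testBit_two_pow_mul]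
  by_cases hi : i < m
  · simp [hi, not_le.2 hi]
  · rw [Nat.testBit_eq_false_of_lt (lt_of_lt_of_le h (Nat.pow_le_pow_right (by norm_num)
      (not_lt.1 hi)))]
    simp [hi, not_lt.1 hi]

theorem encD_digits : ∀ (n x : ℕ), encD (fun k => x / 4 ^ k % 4) n = x % 4 ^ n
  | 0, x => by simp [encD, Nat.mod_one]
  | n + 1, x => by
    rw [encD, encD_digits n, pow_succ, Nat.mod_mul, show (4 : ℕ) ^ n = 2 ^ (2 * n) by
      rw [pow_mul]; norm_num]
    exact xor_high _ _ _ (Nat.mod_lt _ (Nat.two_pow_pos _))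

theorem reps_fixers : ∀ p ∈ witTab, p.1 < 2 ^ 20 ∧ runW p.2 p.1 = p.1 ∧
    (∀ i < 20, runW p.2 (runW p.2 (runW p.2 (2 ^ i))) = 2 ^ i) ∧
    ∃ i < 20, runW p.2 (2 ^ i) ≠ 2 ^ i := by
  decide +kernel

theorem reps_cover : ∀ r ∈ reps, r ∈ witTab.map Prod.fst ∨ runW moveW r ∈ witTab.map Prod.fst := by
  decide +kernel

namespace Ctx

variable {V : Type*} [AddCommGroup V] (C : Ctx V)

theorem Phi_gel (k : Fin 8) (x : ℕ) : C.act (gel k) (C.Φ x) = C.Φ (app (gcol k.val) x) := by
  have key : ∀ i : Fin 5, C.act (P (adj i)) (C.Φ x) = C.Φ (app (gcol i.val) x) := fun i => by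
    rw [gtab_adj]; exact C.Phi_T i x
  fin_cases k
  · exact key 0
  · exact key 1
  · exact key 2
  · exact key 3
  · exact key 4
  · show C.act S _ = C.Φ (app (gcol 5) x); rw [gtab_S]; exact C.Phi_S x
  · show C.act (D a5) _ = C.Φ (app (gcol 6) x); rw [gtab_D5]; exact C.Phi_R a5 x
  · show C.act (D a6) _ = C.Φ (app (gcol 7) x); rw [gtab_D6]; exact C.Phi_R a6 x

theorem Phi_run : ∀ (w : List (Fin 8)) (x : ℕ), C.act (elG w) (C.Φ x) = C.Φ (runW w x)
  | [], x => C.one _
  | k :: w, x => by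
    show C.act (gel k * elG w) _ = _
    rw [C.mul, Phi_run w x]; exact C.Phi_gel k _

theorem Phi_runN : ∀ (n c x : ℕ), ∃ g, C.act g (C.Φ x) = C.Φ (runN n c x)
  | 0, _, x => ⟨1, C.one _⟩
  | n + 1, c, x => by
    by_cases hc : c = 0
    · exact ⟨1, by rw [C.one]; simp [runN, hc]⟩
    · obtain ⟨g, hg⟩ := Phi_runN n (c / 9) (app (gcol ((c % 9 - 1) % 8)) x)
      refine ⟨g * gel ⟨(c % 9 - 1) % 8, Nat.mod_lt _ (by norm_num)⟩, ?_⟩
      rw [C.mul, C.Phi_gel, hg]
      simp [runN, hc]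

/-- A vector is fixed by an element acting with order three. -/
def Fixed3 (v : V) : Prop :=
  ∃ g, (∀ u, C.act g (C.act g (C.act g u)) = u) ∧ (∃ u, C.act g u ≠ u) ∧ C.act g v = v

theorem fixed3_move {v : V} (g : SU 6 K 2) (h : C.Fixed3 (C.act g v)) : C.Fixed3 v := by
  obtain ⟨e, he, ⟨u, hu⟩, hv⟩ := h
  have hinv : ∀ w, C.act g⁻¹ (C.act g w) = w := fun w => by rw [← C.mul, inv_mul_cancel, C.one]
  have hinv' : ∀ w, C.act g (C.act g⁻¹ w) = w := fun w => by rw [← C.mul, mul_inv_cancel, C.one]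
  refine ⟨g⁻¹ * e * g, fun w => ?_, ⟨C.act g⁻¹ u, ?_⟩, ?_⟩
  · simp only [C.mul, hinv', he, hinv]
  · rw [C.mul, C.mul, hinv']
    exact fun h => hu ((congrArg (C.act g) h).symm.trans (hinv' _) ▸ (by rw [hinv']))
  · rw [C.mul, C.mul, hv, hinv]

theorem fixed3_rep {r : ℕ} (hr : r ∈ reps) : C.Fixed3 (C.Φ r) := by
  have key : ∀ r ∈ witTab.map Prod.fst, C.Fixed3 (C.Φ r) := by
    intro r hr
    obtain ⟨⟨r, w⟩, hp, rfl⟩ := List.mem_map.1 hr
    obtain ⟨-, hfix, h3, i, hi, hne⟩ := reps_fixers _ hp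
    refine ⟨elG w, fun u => ?_, ⟨C.Φ (2 ^ i), fun h => hne ?_⟩, by rw [C.Phi_run]; exact congrArg C.Φ hfix⟩
    · obtain ⟨x, hx, rfl⟩ := C.Phi_surj u
      rw [C.Phi_run, C.Phi_run, C.Phi_run]
      exact congrArg C.Φ (lin_ext (f := fun x => runW w (runW w (runW w x))) (g := fun x => x)
        (fun a b => by simp only [runW_xor]) (fun _ _ => rfl) 20 h3 x hx)
    · rw [C.Phi_run] at h
      exact C.Phi_inj (runW_lt _ (Nat.pow_lt_pow_right (by norm_num) hi))
        (Nat.pow_lt_pow_right (by norm_num) hi) h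
  rcases reps_cover r hr with h | h
  · exact key r h
  · exact C.fixed3_move (elG moveW) (by rw [C.Phi_run]; exact key _ h)

theorem fixed3_zero : C.Fixed3 0 := by
  obtain ⟨g, hg, hne, -⟩ := C.fixed3_rep (r := 1) (by decide)
  exact ⟨g, hg, hne, map_zero _⟩

theorem Phi_slot_R (a : Cv) (j : Fin 10) {c : ℕ} (hc : c < 4) :
    C.R a (C.Φ (c * 4 ^ j.val)) = C.Φ (mulC (wt j a) c * 4 ^ j.val) := by
  rw [C.Phi_slot j hc, C.Phi_slot j (mulC_lt _ c hc)]
  conv_lhs => rw [← permA_mul_inv (sig j) a, ← C.T_R, C.R_psi _ hc, wt_sig]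

/-- Every vector is fixed by an element of order three. -/
theorem fixed3_all (v : V) : C.Fixed3 v := by
  obtain ⟨x, hx, rfl⟩ := C.Phi_surj v
  set c : ℕ → ℕ := fun k => x / 4 ^ k % 4 with hc
  have hc4 : ∀ k, c k < 4 := fun k => Nat.mod_lt _ (by norm_num)
  set b : Fin 10 → Bool := fun j => decide (c j.val ≠ 0) with hb
  obtain ⟨hSm, hbit⟩ := mask_ok b
  set Sm := mask b
  by_cases h0 : Sm = 0
  · have hz : ∀ j < 10, c j = 0 := fun j hj => by
      have := hbit ⟨j, hj⟩
      rw [h0] at this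
      simpa [hb] using this
    have he : ∀ k ≤ 10, encD c k = 0 := by
      intro k
      induction k with
      | zero => intro _; rfl
      | succ k ih => intro hk; rw [encD, ih (by omega), hz k (by omega)]; simp
    have hx0 : x = 0 := by
      have := (encD_digits 10 x).symm.trans (he 10 le_rfl)
      rwa [Nat.mod_eq_of_lt (by simpa using hx)] at this
    rw [hx0, show C.Φ 0 = 0 from comb_zero _]
    exact C.fixed3_zero
  set PP := pivsOf Sm with hPP
  have hpiv := pivs_ok ⟨Sm, hSm⟩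
  set a : Cv := (PP.map fun p => lg (c p.1) • cvOf p.2).sum with ha
  have hwt : ∀ p ∈ PP, wt (Fin.ofNat 10 p.1) a = lg (c p.1) := by
    intro p hp
    have hsum : ∀ l : List (ℕ × ℕ), (∀ q ∈ l, q ∈ PP) →
        wt (Fin.ofNat 10 p.1) (l.map fun q => lg (c q.1) • cvOf q.2).sum =
          (l.map fun q => lg (c q.1) * if p = q then 1 else 0).sum := by
      intro l
      induction l with
      | nil =>
        intro _
        simp only [List.map_nil, List.sum_nil, wt]
        have := dot_smul (line ((Fin.ofNat 10 p.1).castLE (by norm_num))) 0 0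
        simpa using this
      | cons q l ih =>
        intro hl
        simp only [List.map_cons, List.sum_cons, wt] at ih ⊢
        rw [dot_add, dot_smul, ih fun q hq => hl q (List.mem_cons_of_mem _ hq)]
        congr 2
        exact (hpiv p hp q (hl q (List.mem_cons_self ..))).2
    rw [ha, hsum PP fun _ h => h]
    have hnd : PP.Nodup := pivs_nodup ⟨Sm, hSm⟩
    rw [← List.sum_toFinset _ hnd, Finset.sum_eq_single p]
    · rw [if_pos rfl, mul_one]
    · intro q _ hq; rw [if_neg (Ne.symm hq), mul_zero]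
    · intro h; exact absurd (List.mem_toFinset.2 hp) h
  set c' : ℕ → ℕ := fun k => mulC (wt (Fin.ofNat 10 k) a) (c k) with hc'
  have hmem : ∀ j < 10, c' j ∈ opts Sm PP j := by
    intro j hj
    have hj' : Fin.ofNat 10 j = ⟨j, hj⟩ := Fin.ext (Nat.mod_eq_of_lt hj)
    have hb' : Sm.testBit j = decide (c j ≠ 0) := hbit ⟨j, hj⟩
    unfold opts
    rw [hb']
    by_cases hcj : c j = 0
    · have e0 : c' j = 0 := (mulC_ne _ _ (hc4 j)).2 hcj
      rw [e0, if_neg (by simp [hcj])]
      exact List.mem_singleton_self 0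
    rw [if_pos (by simp [hcj])]
    split_ifs with hin
    · rw [List.contains_iff_mem, List.mem_map] at hin
      obtain ⟨p, hp, rfl⟩ := hin
      rw [hc']
      simp only [hwt p hp, mulC_lg _ (hc4 _) hcj, List.mem_singleton]
    · exact digit_mem _ (mulC_lt _ _ (hc4 j)) fun e => hcj ((mulC_ne _ _ (hc4 j)).1 e)
  have hR : ∀ k ≤ 10, C.R a (C.Φ (encD c k)) = C.Φ (encD c' k) := by
    intro k
    induction k with
    | zero => intro _; simp [encD, show C.Φ 0 = 0 from comb_zero _]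
    | succ k ih =>
      intro hk
      simp only [encD, C.Phi_xor, map_add, ih (by omega)]
      congr 1
      have := C.Phi_slot_R a ⟨k, by omega⟩ (hc4 k)
      simp only [hc']
      rw [show Fin.ofNat 10 k = (⟨k, by omega⟩ : Fin 10) from
        Fin.ext (Nat.mod_eq_of_lt (by omega))]
      exact this
  have he : encD c 10 = x := by
    rw [hc, encD_digits, Nat.mod_eq_of_lt (by simpa using hx)]
  have hok : supOK Sm = true := by
    have := (sup_all ⟨Sm / 64, by omega⟩ ⟨Sm % 64, Nat.mod_lt _ (by norm_num)⟩).resolve_left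
      fun h => h0 (by simp at h; omega)
    simpa [Nat.div_add_mod] using this
  obtain ⟨-, hall⟩ := foldl_and (fun s x => reps.contains (runN 22 (s % 18446744073709551616) x))
    (fun s => s / 18446744073709551616) _ _ _ hok
  obtain ⟨s, hs⟩ := hall _ (encD_mem 10 hmem)
  rw [List.contains_iff_mem] at hs
  obtain ⟨g, hg⟩ := C.Phi_runN 22 (s % 18446744073709551616) (encD c' 10)
  rw [← he]
  refine C.fixed3_move (g * D a) ?_
  rw [C.mul, show C.act (D a) = C.R a from rfl, hR 10 le_rfl, hg]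
  exact C.fixed3_rep hs

end Ctx

end H61.U6M
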