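/-
The eight generators generate SU6(2).
-/
import Cfsg.Agent.H61.U6M.Fix
import Cfsg.Agent.H61.U6M.GenData
import Cfsg.Agent.H5.TT.UnitaryTwo
import Cfsg.Agent.H50.Generation

set_option autoImplicit false
set_option linter.unusedSectionVars false

namespace H61.U6M

open Matrix Cfsg H50 H5.TT

/-- The twelve basis vectors of the natural module over the prime field. -/
def nbasis : List (Fin 6 → K) :=
  (List.finRange 6).flatMap fun j => [Pi.single j 1, Pi.single j (H35.G24.K4.ofN 2)]

/-- Natural vectors from codes. -/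
def ndec (x : ℕ) : Fin 6 → K := comb nbasis x

theorem ntwo (v : Fin 6 → K) : v + v = 0 := funext fun i => add_self (v i)

theorem gel_mat (k : Fin 8) :
    nbasis.map (fun v => suMat (gel k) *ᵥ v) = (ntab.getD k.val []).map (comb nbasis) := by
  revert k
  decide +kernel

theorem gel_dec (k : Fin 8) (x : ℕ) : suMat (gel k) *ᵥ ndec x = ndec (app (ntab.getD k.val []) x) :=
  comb_intertwine ntwo nbasis (AddMonoidHom.mk' (fun v => suMat (gel k) *ᵥ v)
    fun a b => mulVec_add _ a b) _ (gel_mat k) x

/-- Multiplication of natural codes by the cube root. -/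
def nscale : List ℕ := (List.range 6).flatMap fun j => [2 * 4 ^ j, 3 * 4 ^ j]

theorem nscale_mat : nbasis.map (fun v => (H35.G24.K4.ofN 2) • v) = nscale.map (comb nbasis) := by
  decide +kernel

theorem nscale_dec (x : ℕ) : ndec (app nscale x) = (H35.G24.K4.ofN 2) • ndec x :=
  (comb_intertwine ntwo nbasis (AddMonoidHom.mk' (fun v : Fin 6 → K => (H35.G24.K4.ofN 2) • v)
    fun a b => smul_add _ a b) _ nscale_mat x).symm

/-- The points. -/
def points : List ℕ := 5 :: ptsTab.map Prod.fst

/-- Is a code a scalar multiple of another? -/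
def sameLine (x y : ℕ) : Bool :=
  x == y || app nscale x == y || app nscale (app nscale x) == y

/-- Every step leads to an earlier point. -/
def stepsOK : Bool :=
  ((List.range ptsTab.length).all fun i =>
    let e := ptsTab.getD i (0, 0, 0)
    decide (e.2.2 ≤ i) && decide (e.2.1 < 8) &&
      sameLine (points.getD e.2.2 0) (app (ntab.getD e.2.1 []) e.1))

theorem steps_ok : stepsOK = true := by decide +kernel

/-- Isotropic codes. -/
def isoC (x : ℕ) : Bool :=
  ((List.range 6).map fun j => if x / 4 ^ j % 4 = 0 then 0 else 1).sum % 2 == 0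

/-- The three codes on a line. -/
def onLine (p : ℕ) : List ℕ := [p, app nscale p, app nscale (app nscale p)]

/-- The mask of the codes on the points. -/
def pointsMask : ℕ := (points.flatMap onLine).foldl (fun m y => m ||| 2 ^ y) 0

theorem foldl_mask : ∀ (l : List ℕ) (m x : ℕ),
    (l.foldl (fun m y => m ||| 2 ^ y) m).testBit x = true → m.testBit x = true ∨ x ∈ l
  | [], m, x, h => Or.inl h
  | a :: l, m, x, h => by
    rcases foldl_mask l _ x h with h | h
    · rw [Nat.testBit_or, Bool.or_eq_true] at h
      rcases h with h | h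
      · exact Or.inl h
      · rw [Nat.testBit_two_pow, decide_eq_true_eq] at h
        exact Or.inr (by rw [h]; exact List.mem_cons_self ..)
    · exact Or.inr (List.mem_cons_of_mem _ h)

theorem isoC_eq : ∀ a : Fin 64, ∀ b : Fin 64,
    isoC (64 * a.val + b.val) = decide (hermForm 6 K 2 (ndec (64 * a.val + b.val))
      (ndec (64 * a.val + b.val)) = 0) := by
  decide +kernel

theorem cover_ok : ((List.range 4096).all fun x =>
    !(isoC x) || x == 0 || pointsMask.testBit x) = true := by
  decide +kernel

theorem ndec_bij : Function.Bijective (fun x : Fin 4096 => ndec x.val) := by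
  have hs : Function.Surjective (fun x : Fin 4096 => ndec x.val) := by
    intro v
    have hmem : v ∈ AddSubgroup.closure {x | x ∈ nbasis} := by
      have hsum : v = ∑ j, Pi.single j (v j) := (Finset.univ_sum_single v).symm
      rw [hsum]
      refine sum_mem fun j _ => ?_
      have h4 : ∀ c : K, c = 0 ∨ c = 1 ∨ c = H35.G24.K4.ofN 2 ∨ c = 1 + H35.G24.K4.ofN 2 := by
        decide +kernel
      have hm : ∀ c, c = (1 : K) ∨ c = H35.G24.K4.ofN 2 →
          (Pi.single j c : Fin 6 → K) ∈ AddSubgroup.closure {x | x ∈ nbasis} := fun c hc =>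
        AddSubgroup.subset_closure (List.mem_flatMap.2 ⟨j, List.mem_finRange j, by
          rcases hc with rfl | rfl <;> simp⟩)
      rcases h4 (v j) with e | e | e | e <;> rw [e]
      · rw [Pi.single_zero]; exact zero_mem _
      · exact hm _ (Or.inl rfl)
      · exact hm _ (Or.inr rfl)
      · rw [Pi.single_add]; exact add_mem (hm _ (Or.inl rfl)) (hm _ (Or.inr rfl))
    obtain ⟨x, hx, e⟩ := exists_comb_of_mem_closure ntwo nbasis hmem
    exact ⟨⟨x, by simpa [nbasis, List.length_flatMap] using hx⟩, e⟩
  refine (Nat.bijective_iff_surjective_and_card _).2 ⟨hs, ?_⟩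
  rw [Nat.card_fin, Nat.card_eq_fintype_card, Fintype.card_fun, hK, Fintype.card_fin]
  norm_num

theorem closure_gel : Subgroup.closure (Set.range gel) = ⊤ := by
  set G := Subgroup.closure (Set.range gel)
  have hG : ∀ k, gel k ∈ G := fun k => Subgroup.subset_closure ⟨k, rfl⟩
  have hline : ∀ {x y : ℕ}, sameLine x y = true → ∃ c : K, c ≠ 0 ∧ ndec y = c • ndec x := by
    intro x y h
    simp only [sameLine, Bool.or_eq_true, beq_iff_eq] at h
    rcases h with (rfl | rfl) | rfl
    · exact ⟨1, one_ne_zero, (one_smul K _).symm⟩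
    · exact ⟨_, by decide +kernel, nscale_dec x⟩
    · exact ⟨H35.G24.K4.ofN 2 * H35.G24.K4.ofN 2, by decide +kernel, by
        rw [nscale_dec, nscale_dec, smul_smul]⟩
  have hpts : ∀ i < points.length, ∀ A : SU 6 K 2, U2.IsTr A (ndec (points.getD i 0)) → A ∈ G := by
    intro i
    induction i using Nat.strong_induction_on with
    | _ i ih =>
    intro hi A hA
    rcases i with _ | i
    · have hP : U2.IsTr (P (adj 0)) (ndec 5) := by
        refine ⟨by decide +kernel, by decide +kernel, fun x => ?_⟩
        funext k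
        have e : ndec 5 = fun k => if k = 0 ∨ k = 1 then 1 else 0 := by decide +kernel
        rw [P_apply, e, hermForm, Fin.sum_univ_six]
        fin_cases k <;>
          simp [adj, Equiv.swap_apply_def, ← add_assoc, add_self]
        all_goals rw [add_right_comm, add_self, zero_add]
      have hA' : U2.IsTr A (ndec 5) := hA
      rw [U2.tr_unique hK hA' hP]
      exact hG 0
    · have hlen : i < ptsTab.length := by simpa [points] using hi
      have h := List.all_eq_true.1 steps_ok i (List.mem_range.2 hlen)
      simp only [Bool.and_eq_true, decide_eq_true_eq] at h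
      obtain ⟨⟨hle, hk⟩, hl⟩ := h
      have he : points.getD (i + 1) 0 = (ptsTab.getD i (0, 0, 0)).1 := by
        simp [points, List.getD_eq_getElem?_getD, List.getElem?_map, List.getElem?_eq_getElem hlen]
      rw [he] at hA
      set e := ptsTab.getD i (0, 0, 0)
      have hB := U2.tr_conj hK hA (gel ⟨e.2.1, hk⟩)
      rw [gel_dec] at hB
      obtain ⟨c, hc, hcv⟩ := hline hl
      rw [hcv] at hB
      have hB' := U2.tr_smul hK hB (inv_ne_zero hc)
      rw [smul_smul, inv_mul_cancel₀ hc, one_smul] at hB'
      have hm := ih e.2.2 (by omega) (by omega) _ hB'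
      have := mul_mem (mul_mem (inv_mem (hG ⟨e.2.1, hk⟩)) hm) (hG ⟨e.2.1, hk⟩)
      simpa [mul_assoc] using this
  have hTr : ∀ (A : SU 6 K 2) v, U2.IsTr A v → A ∈ G := by
    intro A v hA
    obtain ⟨x, hx⟩ := ndec_bij.2 v
    have hx' : ndec x.val = v := hx
    set a : Fin 64 := ⟨x.val / 64, by omega⟩
    set b : Fin 64 := ⟨x.val % 64, by omega⟩
    have hab : 64 * a.val + b.val = x.val := Nat.div_add_mod x.val 64
    have hxne : x.val ≠ 0 := fun e => hA.1 (by rw [← hx', e]; exact comb_zero _)
    have hiso : isoC x.val = true := by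
      rw [← hab, isoC_eq, hab, hx']; exact decide_eq_true hA.2.1
    have hc := List.all_eq_true.1 cover_ok x.val (List.mem_range.2 x.isLt)
    simp only [hiso, Bool.not_true, Bool.false_or, Bool.or_eq_true, beq_iff_eq, hxne,
      false_or] at hc
    obtain ⟨p, hp, hl⟩ : ∃ p ∈ points, sameLine p x.val = true := by
      rcases foldl_mask _ _ _ hc with h | h
      · simp at h
      · obtain ⟨p, hp, hl⟩ := List.mem_flatMap.1 h
        refine ⟨p, hp, ?_⟩
        simp only [onLine, List.mem_cons, List.not_mem_nil, or_false] at hl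
        simp only [sameLine, Bool.or_eq_true, beq_iff_eq]
        rcases hl with e | e | e
        · exact Or.inl (Or.inl e.symm)
        · exact Or.inl (Or.inr e.symm)
        · exact Or.inr e.symm
    obtain ⟨i, hi, rfl⟩ := List.getElem_of_mem hp
    obtain ⟨c, hc0, hcv⟩ := hline hl
    rw [hx'] at hcv
    refine hpts i hi A ?_
    have := U2.tr_smul hK hA (inv_ne_zero hc0)
    rwa [hcv, smul_smul, inv_mul_cancel₀ hc0, one_smul, ← List.getD_eq_getElem _ 0 hi] at this
  rw [eq_top_iff, ← transSub_eq_top hK 6 (by norm_num) (by norm_num), transSub,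
    Subgroup.closure_le]
  rintro A ⟨v, c, hv, hA⟩
  have hform : ∀ x, suMat A *ᵥ x = x + (c * hermForm 6 K 2 x v) • v := fun x => by
    rw [hA, ut_mulVec]
  by_cases hv0 : v = 0
  · have : A = 1 := suMat_ext fun x => by rw [hform, hv0, smul_zero, add_zero, suMat_one, one_mulVec]
    rw [this]; exact one_mem _
  by_cases hc : c = 0
  · have : A = 1 := suMat_ext fun x => by
      rw [hform, hc, zero_mul, zero_smul, add_zero, suMat_one, one_mulVec]
    rw [this]; exact one_mem _
  have hc1 : c = 1 := by
    obtain ⟨i, hi⟩ : ∃ i, v i ≠ 0 := Function.ne_iff.1 hv0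
    set x : Fin 6 → K := Pi.single i ((v i ^ 2)⁻¹) with hx
    have hxv : hermForm 6 K 2 x v = 1 := by
      rw [hx, hermForm, Finset.sum_eq_single i (fun j _ hj => by simp [hj]) (by simp)]
      simp [hi]
    have hvx : hermForm 6 K 2 v x = 1 := by rw [h_symm hK x v, hxv, one_pow]
    have h := suMat_h A x x
    rw [hform, h_add_left, h_add_right hK, h_add_right hK, h_smul_left, h_smul_left,
      h_smul_right hK, h_smul_right hK, hxv, hvx, hv, mul_one, mul_one, mul_zero, mul_zero,
      add_zero, add_assoc, add_eq_left] at h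
    have : ∀ d : K, d ^ 2 + d = 0 → d ≠ 0 → d = 1 := by decide +kernel
    exact this c (by rw [mul_one] at h; exact h) hc
  refine hTr A v ⟨hv0, hv, fun x => ?_⟩
  rw [hform, hc1, one_mul]

end H61.U6M
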