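/-
Fixed vectors of involutions: cosets modulo commutators and elements of order three fixing them.
-/
import Cfsg.Agent.H61.U6M.Fix
import Cfsg.Agent.H61.U6M.InvData

set_option autoImplicit false
set_option linter.unusedSectionVars false

namespace H61.U6M

open Matrix Cfsg H50

/-- The columns of coordinatewise conjugation. -/
def colSig : List ℕ := (List.range 10).flatMap fun j => [4 ^ j, 3 * 4 ^ j]

/-- Membership in the orbit of 891 vectors. -/
def inO (x : ℕ) : Bool := (orbTab.getD (x % 61) []).contains x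

/-- The units test of a witness. -/
def witOK (T : List ℕ) (w : List (Fin 8)) : Bool :=
  ((List.range 20).all fun i => runW w (app T (2 ^ i)) == app T (runW w (2 ^ i)) &&
    runW w (runW w (runW w (2 ^ i))) == 2 ^ i) &&
  ((List.range 20).any fun i => runW w (2 ^ i) != 2 ^ i)

/-- The whole test of the data of an involution. -/
def invOK (d : IData) : Bool :=
  let n := d.Q.length
  (d.T.all fun c => decide (c < 2 ^ 20)) &&
  (d.Q.all fun c => decide (c < 2 ^ 20)) &&
  (d.Sel.all fun c => decide (c < 2 ^ n)) &&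
  (d.Bm.all fun c => decide (c < 2 ^ 20)) &&
  ((List.range 20).all fun i =>
    2 ^ i == app d.Q (app d.Sel (2 ^ i)) ^^^ (app d.Bm (2 ^ i) ^^^ app d.T (app d.Bm (2 ^ i))) ^^^
      app d.Cm (2 ^ i ^^^ app d.T (2 ^ i))) &&
  (d.wits.all fun w => witOK d.T w) &&
  ((List.range (2 ^ n)).all fun m =>
    match d.wtab.getD m 0 with
    | 0 => d.bad.any fun e => e.1 == m
    | k + 1 => decide (k < d.wits.length) && runW (d.wits.getD k []) (app d.Q m) == app d.Q m) &&
  (d.bad.all fun e => decide (e.2.1 < 2 ^ 20) && decide (e.2.2 < 2 ^ 20) &&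
    app d.T e.2.1 == e.2.1 && app d.T e.2.2 == e.2.2 && inO e.2.1 && !inO e.2.2 &&
    (d.wtab.getD (app d.Sel e.2.1 ^^^ e.1) 0 != 0) && (d.wtab.getD (app d.Sel e.2.2 ^^^ e.1) 0 != 0)) &&
  decide (d.six.length = 6) &&
  ((List.range 64).all fun m => m == 0 ||
    app (d.six.map fun i => 2 ^ i ^^^ app d.T (2 ^ i)) m != 0) &&
  (d.six.all fun i => decide (i < 20))

theorem datA_ok : invOK datA = true := by decide +kernel
theorem datB_ok : invOK datB = true := by decide +kernel
theorem datC_ok : invOK datC = true := by decide +kernel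
theorem datS_ok : invOK datS = true := by decide +kernel
theorem datS3_ok : invOK datS3 = true := by decide +kernel

theorem datA_T : ∀ i < 20, app datA.T (2 ^ i) = runW [0] (2 ^ i) := by decide +kernel
theorem datB_T : ∀ i < 20, app datB.T (2 ^ i) = runW [0, 2] (2 ^ i) := by decide +kernel
theorem datC_T : ∀ i < 20, app datC.T (2 ^ i) = runW [0, 2, 4] (2 ^ i) := by decide +kernel
theorem datS_T : ∀ i < 20, app datS.T (2 ^ i) = app colSig (2 ^ i) := by decide +kernel
theorem datS3_T : ∀ i < 20, app datS3.T (2 ^ i) = app colSig (runW [0, 2, 4] (2 ^ i)) := by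
  decide +kernel

theorem inO_gen : (orbTab.flatten.all fun x => decide (x < 2 ^ 20) && inO (app colSig x) &&
    (List.range 8).all fun k => inO (app (gcol k) x)) = true := by
  decide +kernel

theorem inO_one : inO 1300 = true ∧ inO 1 = false := by decide +kernel

theorem mem_flatten_of_inO {x : ℕ} (h : inO x = true) : x ∈ orbTab.flatten := by
  rw [inO, List.contains_iff_mem] at h
  by_cases hl : x % 61 < orbTab.length
  · rw [List.getD_eq_getElem _ _ hl] at h
    exact List.mem_flatten.2 ⟨_, List.getElem_mem hl, h⟩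
  · rw [List.getD_eq_default _ _ (not_lt.1 hl)] at h
    simp at h

namespace Ctx

variable {V : Type*} [AddCommGroup V] (C : Ctx V)

/-- A vector is fixed by an element of order three commuting with `τ`. -/
def GoodFix (τ : V →+ V) (z : V) : Prop :=
  ∃ g, (∀ u, C.act g (C.act g (C.act g u)) = u) ∧ (∃ u, C.act g u ≠ u) ∧
    (∀ u, C.act g (τ u) = τ (C.act g u)) ∧ C.act g z = z

/-- The vectors of the small orbit. -/
def InO (v : V) : Prop := ∃ x, inO x = true ∧ C.Φ x = v

theorem Phi_lt_of_inO {x : ℕ} (h : inO x = true) : x < 2 ^ 20 := by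
  have := List.all_eq_true.1 inO_gen x (mem_flatten_of_inO h)
  simp only [Bool.and_eq_true, decide_eq_true_eq] at this
  exact this.1.1

theorem InO_gel (k : Fin 8) {v : V} (h : C.InO v) : C.InO (C.act (gel k) v) := by
  obtain ⟨x, hx, rfl⟩ := h
  have := List.all_eq_true.1 inO_gen x (mem_flatten_of_inO hx)
  simp only [Bool.and_eq_true] at this
  exact ⟨_, List.all_eq_true.1 this.2 k.val (List.mem_range.2 k.isLt), (C.Phi_gel k x).symm⟩

theorem InO_sig {τ : V →+ V} (hτ : ∀ x, τ (C.Φ x) = C.Φ (app colSig x)) {v : V} (h : C.InO v) :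
    C.InO (τ v) := by
  obtain ⟨x, hx, rfl⟩ := h
  have := List.all_eq_true.1 inO_gen x (mem_flatten_of_inO hx)
  simp only [Bool.and_eq_true] at this
  exact ⟨_, this.1.2, (hτ x).symm⟩

theorem goodFix_wit {d : IData} (hd : invOK d = true) (τ : V →+ V)
    (hτ : ∀ x < 2 ^ 20, τ (C.Φ x) = C.Φ (app d.T x)) {m k : ℕ} (hk : k < d.wits.length)
    (hfix : runW (d.wits.getD k []) (app d.Q m) = app d.Q m) :
    C.GoodFix τ (C.Φ (app d.Q m)) := by
  simp only [invOK, Bool.and_eq_true, List.all_eq_true, decide_eq_true_eq] at hd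
  obtain ⟨⟨⟨⟨⟨⟨⟨⟨⟨⟨hT, -⟩, -⟩, -⟩, -⟩, hw⟩, -⟩, -⟩, -⟩, -⟩, -⟩ := hd
  have hwk := hw (d.wits.getD k []) (by
    rw [List.getD_eq_getElem _ _ hk]; exact List.getElem_mem _)
  simp only [witOK, Bool.and_eq_true, List.all_eq_true, List.mem_range, beq_iff_eq,
    List.any_eq_true, bne_iff_ne] at hwk
  obtain ⟨hunits, i, hi, hmove⟩ := hwk
  set w := d.wits.getD k []
  have hlt : ∀ i < 20, (2 : ℕ) ^ i < 2 ^ 20 := fun i hi => Nat.pow_lt_pow_right (by norm_num) hi
  refine ⟨elG w, fun u => ?_, ⟨C.Φ (2 ^ i), fun h => ?_⟩, fun u => ?_, ?_⟩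
  · obtain ⟨x, hx, rfl⟩ := C.Phi_surj u
    rw [C.Phi_run, C.Phi_run, C.Phi_run]
    exact congrArg C.Φ (lin_ext (f := fun x => runW w (runW w (runW w x))) (g := fun x => x)
      (fun a b => by simp only [runW_xor]) (fun _ _ => rfl) 20 (fun i hi => (hunits i hi).2) x hx)
  · rw [C.Phi_run] at h
    exact hmove (C.Phi_inj (runW_lt _ (hlt i hi)) (hlt i hi) h)
  · obtain ⟨x, hx, rfl⟩ := C.Phi_surj u
    rw [hτ x hx, C.Phi_run, C.Phi_run, hτ _ (runW_lt _ hx)]
    exact congrArg C.Φ (lin_ext (f := fun x => runW w (app d.T x)) (g := fun x => app d.T (runW w x))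
      (fun a b => by simp only [runW_xor, app_xor]) (fun a b => by simp only [runW_xor, app_xor])
      20 (fun i hi => (hunits i hi).1) x hx)
  · rw [C.Phi_run, hfix]

/-- The conclusion about an involution `τ`. -/
structure InvSpec (τ : V →+ V) : Prop where
  cases : ∀ v, τ v = v → (∃ y, C.GoodFix τ (v + (y + τ y))) ∨
    ∃ a0 a1, τ a0 = a0 ∧ τ a1 = a1 ∧ C.InO a0 ∧ ¬ C.InO a1 ∧
      (∃ y, C.GoodFix τ (v + a0 + (y + τ y))) ∧ ∃ y, C.GoodFix τ (v + a1 + (y + τ y))
  bound : Nat.card {v : V // τ v = v} ≤ 2 ^ 14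

theorem invSpec_of_ok {d : IData} (hd0 : invOK d = true) (τ : V →+ V)
    (hτ : ∀ x < 2 ^ 20, τ (C.Φ x) = C.Φ (app d.T x)) : C.InvSpec τ := by
  have hd := hd0
  simp only [invOK, Bool.and_eq_true, List.all_eq_true, decide_eq_true_eq, List.mem_range,
    beq_iff_eq, Bool.or_eq_true, bne_iff_ne] at hd
  obtain ⟨⟨⟨⟨⟨⟨⟨⟨⟨⟨hT, hQ⟩, hS⟩, hB⟩, hid⟩, hw⟩, htab⟩, hbad⟩, hsix⟩, hind⟩, hsix20⟩ := hd
  have hT' : ∀ x, app d.T x < 2 ^ 20 := app_lt _ hT
  have hfix : ∀ {x}, x < 2 ^ 20 → τ (C.Φ x) = C.Φ x → app d.T x = x := fun hx h => by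
    rw [hτ _ hx] at h
    exact C.Phi_inj (hT' _) hx h
  have hdec : ∀ x < 2 ^ 20, app d.T x = x →
      C.Φ (app d.Q (app d.Sel x)) = C.Φ x + (C.Φ (app d.Bm x) + τ (C.Φ (app d.Bm x))) := by
    intro x hx he
    have h : x = app d.Q (app d.Sel x) ^^^ (app d.Bm x ^^^ app d.T (app d.Bm x)) ^^^
        app d.Cm (x ^^^ app d.T x) :=
      lin_ext (f := fun x => x) (g := fun x => app d.Q (app d.Sel x) ^^^
        (app d.Bm x ^^^ app d.T (app d.Bm x)) ^^^ app d.Cm (x ^^^ app d.T x)) (fun _ _ => rfl)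
        (fun a b => by simp only [app_xor]; ac_rfl) 20 hid x hx
    rw [he, Nat.xor_self, app_zero, Nat.xor_zero] at h
    conv_rhs => arg 1; rw [h]
    rw [hτ _ (app_lt _ hB x), C.Phi_xor, C.Phi_xor, add_assoc, C.two, add_zero]
  have hgood : ∀ m < 2 ^ d.Q.length, d.wtab.getD m 0 ≠ 0 → C.GoodFix τ (C.Φ (app d.Q m)) := by
    intro m hm hne
    obtain ⟨k, hk⟩ := Nat.exists_eq_succ_of_ne_zero hne
    have := htab m hm
    rw [hk] at this
    simp only [Bool.and_eq_true, decide_eq_true_eq, beq_iff_eq] at this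
    exact C.goodFix_wit hd0 τ hτ this.1 this.2
  constructor
  · intro v hv
    obtain ⟨x, hx, rfl⟩ := C.Phi_surj v
    have he := hfix hx hv
    set m := app d.Sel x
    have hm : m < 2 ^ d.Q.length := app_lt _ hS x
    by_cases hne : d.wtab.getD m 0 ≠ 0
    · left
      refine ⟨C.Φ (app d.Bm x), ?_⟩
      rw [← hdec x hx he]
      exact hgood m hm hne
    right
    have h := htab m hm
    rw [not_not.1 hne] at h
    simp only [List.any_eq_true, beq_iff_eq] at h
    obtain ⟨⟨m', a0, a1⟩, hmem, rfl⟩ := h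
    obtain ⟨⟨⟨⟨⟨⟨⟨h0, h1⟩, t0⟩, t1⟩, o0⟩, o1⟩, g0⟩, g1⟩ := hbad _ hmem
    have shift : ∀ a, a < 2 ^ 20 → app d.T a = a → d.wtab.getD (app d.Sel a ^^^ m) 0 ≠ 0 →
        ∃ y, C.GoodFix τ (C.Φ x + C.Φ a + (y + τ y)) := by
      intro a ha hta hg
      refine ⟨C.Φ (app d.Bm (x ^^^ a)), ?_⟩
      rw [← C.Phi_xor, ← hdec _ (Nat.xor_lt_two_pow hx ha) (by rw [app_xor, he, hta])]
      refine hgood _ (app_lt _ hS _) ?_
      rw [app_xor, Nat.xor_comm]
      exact hg
    refine ⟨C.Φ a0, C.Φ a1, by rw [hτ _ h0, t0], by rw [hτ _ h1, t1], ⟨a0, o0, rfl⟩, ?_,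
      shift a0 h0 t0 g0, shift a1 h1 t1 g1⟩
    rintro ⟨z, hz, e⟩
    rw [C.Phi_inj (Phi_lt_of_inO hz) h1 e] at hz
    simp [hz] at o1
  · haveI : Finite V := Nat.finite_of_card_ne_zero (by rw [C.card]; norm_num)
    set f : V →+ V := AddMonoidHom.id V + τ with hf
    have hker : Nat.card {v : V // τ v = v} = Nat.card f.ker := by
      refine Nat.card_congr (Equiv.subtypeEquivRight fun v => ?_)
      rw [AddMonoidHom.mem_ker, hf, AddMonoidHom.add_apply, AddMonoidHom.id_apply]
      constructor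
      · intro h; rw [h]; exact C.two v
      · intro h; exact (eq_neg_of_add_eq_zero_right h).trans (neg_eq_of_add_eq_zero_right (C.two v))
    have hrange : 64 ≤ Nat.card f.range := by
      set L := d.six.map fun i => 2 ^ i ^^^ app d.T (2 ^ i) with hL
      have hmem : ∀ m, C.Φ (app L m) ∈ f.range := by
        intro m
        rw [Φ, comb_app C.two]
        have : ∀ (l : List ℕ) (x : ℕ), (∀ c ∈ l, C.Φ c ∈ f.range) →
            comb (l.map (comb C.B)) x ∈ f.range := by
          intro l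
          induction l with
          | nil => intro _ _; exact zero_mem _
          | cons c l ih =>
            intro x h
            refine add_mem ?_ (ih _ fun b hb => h b (List.mem_cons_of_mem _ hb))
            split
            · exact h c (List.mem_cons_self ..)
            · exact zero_mem _
        refine this L m fun c hc => ?_
        obtain ⟨i, hi, rfl⟩ := List.mem_map.1 hc
        exact ⟨C.Φ (2 ^ i), by
          rw [hf, AddMonoidHom.add_apply, AddMonoidHom.id_apply,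
            hτ _ (Nat.pow_lt_pow_right (by norm_num) (hsix20 i hi)), ← C.Phi_xor]⟩
      have hlt : ∀ m, app L m < 2 ^ 20 := app_lt _ fun c hc => by
        obtain ⟨i, hi, rfl⟩ := List.mem_map.1 hc
        exact Nat.xor_lt_two_pow (Nat.pow_lt_pow_right (by norm_num) (hsix20 i hi)) (hT' _)
      have hinj : Function.Injective (fun m : Fin 64 => (⟨_, hmem m.val⟩ : f.range)) := by
        intro a b e
        have e' := C.Phi_inj (hlt _) (hlt _) (congrArg Subtype.val e)
        have hz : app L (a.val ^^^ b.val) = 0 := by rw [app_xor, e', Nat.xor_self]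
        refine Fin.ext (Nat.xor_eq_zero_iff.1 ?_)
        exact (hind _ (Nat.xor_lt_two_pow (n := 6) a.isLt b.isLt)).resolve_right fun h => h hz
      simpa using Nat.card_le_card_of_injective _ hinj
    have hprod : Nat.card f.ker * Nat.card f.range = 2 ^ 20 := by
      rw [← C.card, AddSubgroup.card_eq_card_quotient_mul_card_addSubgroup f.ker,
        Nat.card_congr (QuotientAddGroup.quotientKerEquivRange f).toEquiv, mul_comm]
    rw [hker]
    nlinarith

theorem good_of_no_bad {d : IData} (hd : invOK d = true) (hb : d.bad = []) (τ : V →+ V)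
    (hτ : ∀ x < 2 ^ 20, τ (C.Φ x) = C.Φ (app d.T x)) (v : V) (hv : τ v = v) :
    ∃ y, C.GoodFix τ (v + (y + τ y)) := by
  obtain ⟨x, hx, rfl⟩ := C.Phi_surj v
  simp only [invOK, Bool.and_eq_true, List.all_eq_true, decide_eq_true_eq, List.mem_range,
    beq_iff_eq] at hd
  have hd' := hd
  obtain ⟨⟨⟨⟨⟨⟨⟨⟨⟨⟨hT, hQ⟩, hS⟩, hB⟩, hid⟩, hw⟩, htab⟩, hbad⟩, hsix⟩, hind⟩, hsix20⟩ := hd'
  have he : app d.T x = x := by
    rw [hτ x hx] at hv
    exact C.Phi_inj (app_lt _ hT x) hx hv
  refine ⟨C.Φ (app d.Bm x), ?_⟩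
  have h : x = app d.Q (app d.Sel x) ^^^ (app d.Bm x ^^^ app d.T (app d.Bm x)) ^^^
      app d.Cm (x ^^^ app d.T x) :=
    lin_ext (f := fun x => x) (g := fun x => app d.Q (app d.Sel x) ^^^
      (app d.Bm x ^^^ app d.T (app d.Bm x)) ^^^ app d.Cm (x ^^^ app d.T x)) (fun _ _ => rfl)
      (fun a b => by simp only [app_xor]; ac_rfl) 20 hid x hx
  rw [he, Nat.xor_self, app_zero, Nat.xor_zero] at h
  have hh : C.Φ (app d.Q (app d.Sel x)) = C.Φ x + (C.Φ (app d.Bm x) + τ (C.Φ (app d.Bm x))) := by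
    conv_rhs => arg 1; rw [h]
    rw [hτ _ (app_lt _ hB x), C.Phi_xor, C.Phi_xor, add_assoc, C.two, add_zero]
  rw [← hh]
  have ht := htab _ (app_lt _ hS x)
  rcases hk : d.wtab.getD (app d.Sel x) 0 with _ | k
  · rw [hk, hb] at ht
    simp at ht
  · rw [hk] at ht
    simp only [Bool.and_eq_true, decide_eq_true_eq, beq_iff_eq] at ht
    refine C.goodFix_wit ?_ τ hτ ht.1 ht.2
    simp only [invOK, Bool.and_eq_true, List.all_eq_true, decide_eq_true_eq, List.mem_range,
      beq_iff_eq]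
    exact hd

end Ctx

end H61.U6M
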