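/-
Certificate checks for the small orbit and the bad cosets.
-/
import Cfsg.Agent.H61.U6M.Inv
import Cfsg.Agent.H61.U6M.OrbData

set_option autoImplicit false

namespace H61.U6M

/-- The orbit in the order reached. -/
def orbList : List ℕ := 1300 :: orbSteps.map Prod.fst

/-- Each step comes from an earlier member. -/
def orbOK : Bool :=
  (List.range orbSteps.length).all fun i =>
    let e := orbSteps.getD i (0, 0, 0)
    decide (e.2.2 ≤ i) && decide (e.2.1 < 8) &&
      app (gcol e.2.1) (orbList.getD e.2.2 0) == e.1

theorem orb_ok : orbOK = true := by decide +kernel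

theorem orb_all : (orbTab.flatten.all fun x => orbList.contains x) = true := by decide +kernel

theorem orb_nodup : orbTab.flatten.Nodup := by decide +kernel

theorem orb_len : orbTab.flatten.length = 891 := by decide +kernel

theorem orb_bucket : (orbTab.flatten.all fun x => inO x) = true := by decide +kernel

/-- The correction sum for the common fixed space. -/
def radCorr (x : ℕ) : ℕ :=
  ((radW.zip radCor).map fun p => app p.2 (x ^^^ runW p.1 x)).foldr (· ^^^ ·) 0

theorem rad_units : ((List.range 20).all fun i =>
    2 ^ i == app [87040] (app radSel (2 ^ i)) ^^^ radCorr (2 ^ i)) = true := by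
  decide +kernel

theorem rad_sel : ∀ c ∈ radSel, c < 2 ^ 1 := by decide +kernel

theorem rad_orbit : inO 87040 = true := by decide +kernel

theorem rad_inv : (radW.all fun w => (List.range 20).all fun i =>
    runW w (runW w (2 ^ i)) == 2 ^ i && radW.all fun w' => runW w (runW w' (2 ^ i)) == runW w' (runW w (2 ^ i))) = true := by
  decide +kernel

theorem badMoves_ok : (datB.bad.all fun e => badMoves.any fun p => p.1 == e.1 &&
    ((List.range 20).all fun i => runW p.2 (app datB.T (2 ^ i)) == app datB.T (runW p.2 (2 ^ i))) &&
    app datB.Sel (runW p.2 (app datB.Q badBase)) == e.1) = true := by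
  decide +kernel

theorem badBase_fix : app datB.T (app datB.Q badBase) = app datB.Q badBase ∧
    app datB.Q badBase < 2 ^ 20 := by
  decide +kernel

end H61.U6M
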