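/-
The orbit of 891 vectors, the bad cosets, and the action of conjugation of coordinates.
-/
import Cfsg.Agent.H61.U6M.Inv
import Cfsg.Agent.H61.U6M.Gen
import Cfsg.Agent.H61.U6M.OrbCheck

set_option autoImplicit false
set_option linter.unusedSectionVars false

namespace H61.U6M

open Matrix Cfsg H50

theorem radCorr_xor (a b : ℕ) : radCorr (a ^^^ b) = radCorr a ^^^ radCorr b := by
  unfold radCorr
  generalize radW.zip radCor = l
  induction l with
  | nil => simp
  | cons p l ih =>
    simp only [List.map_cons, List.foldr_cons, ih]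
    simp only [runW_xor, app_xor]
    ac_rfl

namespace Ctx

variable {V : Type*} [AddCommGroup V] (C : Ctx V)

/-- The action as permutations. -/
def toPerm : SU 6 K 2 →* Equiv.Perm V where
  toFun g := ⟨C.act g, C.act g⁻¹, fun v => by rw [← C.mul, inv_mul_cancel, C.one],
    fun v => by rw [← C.mul, mul_inv_cancel, C.one]⟩
  map_one' := Equiv.ext fun v => C.one v
  map_mul' g h := Equiv.ext fun v => C.mul g h v

theorem toPerm_apply (g : SU 6 K 2) (v : V) : C.toPerm g v = C.act g v := rfl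

/-- The orbit of a vector. -/
def orb (v : V) : Set V := Set.range fun g => C.act g v

/-- The elements preserving the small orbit. -/
def stabO : Subgroup (SU 6 K 2) where
  carrier := {g | ∀ v, C.InO v → C.InO (C.act g v)}
  one_mem' v h := by rwa [C.one]
  mul_mem' ha hb v h := by rw [C.mul]; exact ha _ (hb v h)
  inv_mem' {g} hg v h := by
    obtain ⟨n, hn⟩ : ∃ n : ℕ, g⁻¹ = g ^ n := ⟨orderOf g - 1, by
      rw [inv_eq_iff_mul_eq_one, ← pow_succ', Nat.sub_add_cancel (orderOf_pos g), pow_orderOf_eq_one]⟩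
    rw [hn]
    clear hn
    induction n with
    | zero => rwa [pow_zero, C.one]
    | succ k ih => rw [pow_succ', C.mul]; exact hg _ ih

theorem InO_act (g : SU 6 K 2) {v : V} (h : C.InO v) : C.InO (C.act g v) := by
  have : g ∈ C.stabO := by
    have hle : Subgroup.closure (Set.range gel) ≤ C.stabO :=
      (Subgroup.closure_le _).2 fun _ ⟨k, hk⟩ v hv => hk ▸ C.InO_gel k hv
    exact hle (by rw [closure_gel]; trivial)
  exact this v h

theorem orb_eq : C.orb (C.Φ 1300) = {v | C.InO v} := by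
  refine Set.Subset.antisymm ?_ ?_
  · rintro _ ⟨g, rfl⟩
    exact C.InO_act g ⟨1300, inO_one.1, rfl⟩
  · rintro v ⟨x, hx, rfl⟩
    have hmem := mem_flatten_of_inO hx
    have hx' := List.all_eq_true.1 orb_all x hmem
    rw [List.contains_iff_mem] at hx'
    obtain ⟨i, hi, rfl⟩ := List.getElem_of_mem hx'
    clear hx hmem hx'
    induction i using Nat.strong_induction_on with
    | _ i ih =>
    rcases i with _ | i
    · exact ⟨1, C.one _⟩
    · have hlen : i < orbSteps.length := by simpa [orbList] using hi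
      have h := List.all_eq_true.1 orb_ok i (List.mem_range.2 hlen)
      simp only [Bool.and_eq_true, decide_eq_true_eq, beq_iff_eq] at h
      obtain ⟨⟨hle, hk⟩, hstep⟩ := h
      have he : orbList[i + 1] = (orbSteps.getD i (0, 0, 0)).1 := by
        simp [orbList, List.getD_eq_getElem?_getD, List.getElem?_eq_getElem hlen]
      set e := orbSteps.getD i (0, 0, 0)
      have hp : e.2.2 < orbList.length := by omega
      obtain ⟨g, hg⟩ := ih e.2.2 (by omega) hp
      rw [List.getD_eq_getElem _ _ hp] at hstep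
      exact ⟨gel ⟨e.2.1, hk⟩ * g, by
        show C.act _ (C.Φ 1300) = _
        rw [C.mul, show C.act g (C.Φ 1300) = _ from hg, C.Phi_gel, hstep, he]⟩

theorem orb_card {v : V} (h : C.InO v) : (C.orb v).ncard = 891 := by
  have hv : v ∈ C.orb (C.Φ 1300) := by rw [C.orb_eq]; exact h
  obtain ⟨g, rfl⟩ := hv
  have : C.orb (C.act g (C.Φ 1300)) = C.orb (C.Φ 1300) := by
    ext w
    constructor
    · rintro ⟨k, rfl⟩; exact ⟨k * g, C.mul k g _⟩
    · rintro ⟨k, rfl⟩; exact ⟨k * g⁻¹, by show C.act _ _ = _; rw [← C.mul, inv_mul_cancel_right]⟩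
  rw [this, C.orb_eq]
  have hset : {v | C.InO v} = C.Φ '' ↑(orbTab.flatten.toFinset) := by
    ext w
    simp only [Set.mem_ofPred_eq, Set.mem_image, List.coe_toFinset, InO]
    constructor
    · rintro ⟨x, hx, rfl⟩; exact ⟨x, mem_flatten_of_inO hx, rfl⟩
    · rintro ⟨x, hx, rfl⟩; exact ⟨x, List.all_eq_true.1 orb_bucket x hx, rfl⟩
  rw [hset, Set.InjOn.ncard_image, Set.ncard_coe_finset, List.toFinset_card_of_nodup orb_nodup,
    orb_len]
  intro x hx y hy e
  simp only [List.coe_toFinset, Set.mem_ofPred_eq] at hx hy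
  exact C.Phi_inj (Phi_lt_of_inO (List.all_eq_true.1 orb_bucket x hx))
    (Phi_lt_of_inO (List.all_eq_true.1 orb_bucket y hy)) e

theorem InO_of_odd {v : V} (hv : v ≠ 0) (hodd : Odd (C.orb v).ncard) : C.InO v := by
  classical
  haveI : Finite V := Nat.finite_of_card_ne_zero (by rw [C.card]; norm_num)
  set G := C.toPerm.range
  have horb : MulAction.orbit G v = C.orb v := by
    ext w
    constructor
    · rintro ⟨⟨_, g, rfl⟩, rfl⟩; exact ⟨g, rfl⟩
    · rintro ⟨g, rfl⟩; exact ⟨⟨_, g, rfl⟩, rfl⟩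
  set St := MulAction.stabilizer G v
  have hidx : ¬ 2 ∣ St.index := by
    rw [MulAction.index_stabilizer, horb]
    exact Nat.two_dvd_ne_zero.2 (Nat.odd_iff.1 hodd) |> fun _ => by
      rw [Nat.two_dvd_ne_zero]; exact Nat.odd_iff.1 hodd
  haveI : Fact (Nat.Prime 2) := ⟨Nat.prime_two⟩
  have hru : ∀ w ∈ radW, ∀ u, C.act (elG w) (C.act (elG w) u) = u ∧ ∀ w' ∈ radW,
      C.act (elG w) (C.act (elG w') u) = C.act (elG w') (C.act (elG w) u) := by
    intro w hw u
    obtain ⟨x, hx, rfl⟩ := C.Phi_surj u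
    have h := List.all_eq_true.1 rad_inv w hw
    simp only [List.all_eq_true, List.mem_range, Bool.and_eq_true, beq_iff_eq] at h
    refine ⟨?_, fun w' hw' => ?_⟩
    · rw [C.Phi_run, C.Phi_run]
      exact congrArg C.Φ (lin_ext (f := fun x => runW w (runW w x)) (g := fun x => x)
        (fun a b => by simp only [runW_xor]) (fun _ _ => rfl) 20 (fun i hi => (h i hi).1) x hx)
    · rw [C.Phi_run, C.Phi_run, C.Phi_run, C.Phi_run]
      exact congrArg C.Φ (lin_ext (f := fun x => runW w (runW w' x))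
        (g := fun x => runW w' (runW w x)) (fun a b => by simp only [runW_xor])
        (fun a b => by simp only [runW_xor]) 20 (fun i hi => (h i hi).2 w' hw') x hx)
  set gens : Set G := {p | ∃ w ∈ radW, (p : Equiv.Perm V) = C.toPerm (elG w)}
  set R := Subgroup.closure gens
  have hR : IsPGroup 2 R := by
    have hcomm : ∀ a ∈ gens, ∀ b ∈ gens, a * b = b * a := by
      rintro a ⟨w, hw, ea⟩ b ⟨w', hw', eb⟩
      refine Subtype.ext (Equiv.ext fun u => ?_)
      simp only [Subgroup.coe_mul, ea, eb, Equiv.Perm.mul_apply, toPerm_apply]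
      exact (hru w hw u).2 w' hw'
    intro r
    refine ⟨1, ?_⟩
    obtain ⟨r, hr⟩ := r
    refine Subtype.ext ?_
    show r ^ (2 ^ 1) = 1
    have hc : ∀ a ∈ R, ∀ b ∈ R, a * b = b * a := fun a ha b hb =>
      congrArg Subtype.val ((Subgroup.isMulCommutative_closure hcomm).is_comm.comm
        (⟨a, ha⟩ : R) ⟨b, hb⟩)
    induction hr using Subgroup.closure_induction with
    | mem a ha =>
      obtain ⟨w, hw, ea⟩ := ha
      refine Subtype.ext (Equiv.ext fun u => ?_)
      rw [pow_one, pow_two]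
      simp only [Subgroup.coe_mul, ea, Equiv.Perm.mul_apply, toPerm_apply]
      exact (hru w hw u).1
    | one => exact one_pow _
    | mul a b ha hb iha ihb => rw [(show Commute a b from hc a ha b hb).mul_pow, iha, ihb, one_mul]
    | inv a _ iha => rw [inv_pow, iha, inv_one]
  obtain ⟨Q, hQ⟩ := hR.exists_le_sylow
  obtain ⟨P0⟩ : Nonempty (Sylow 2 St) := inferInstance
  have hP : ¬ 2 ∣ ((P0 : Subgroup St).map St.subtype).index := by
    rw [Subgroup.index_map_subtype]
    exact fun h => (Nat.prime_two.dvd_mul.1 h).elim P0.not_dvd_index hidx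
  set P : Sylow 2 G := (P0.isPGroup'.map St.subtype).toSylow hP
  obtain ⟨g, hg⟩ := MulAction.exists_smul_eq G Q P
  obtain ⟨_, g', rfl⟩ := g
  have hfix : ∀ w ∈ radW, C.act (elG w) (C.act g'⁻¹ v) = C.act g'⁻¹ v := by
    intro w hw
    set p : G := ⟨C.toPerm (elG w), elG w, rfl⟩
    have hpR : p ∈ R := Subgroup.subset_closure ⟨w, hw, rfl⟩
    set gg : G := ⟨C.toPerm g', g', rfl⟩
    have hmem : gg * p * gg⁻¹ ∈ (P : Subgroup G) := by
      rw [← hg, Sylow.coe_subgroup_smul]
      exact ⟨p, hQ hpR, rfl⟩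
    obtain ⟨s, -, hs⟩ := Subgroup.mem_map.1 hmem
    have hs' : (gg * p * gg⁻¹) • v = v := by rw [← hs]; exact s.2
    have h2 : C.act g' (C.act (elG w) (C.act g'⁻¹ v)) = v := by
      change (C.toPerm g' * C.toPerm (elG w) * (C.toPerm g')⁻¹) v = v at hs'
      rwa [← map_inv] at hs'
    have := congrArg (C.act g'⁻¹) h2
    rwa [← C.mul g'⁻¹ g', inv_mul_cancel, C.one] at this
  obtain ⟨x, hx, ex⟩ := C.Phi_surj (C.act g'⁻¹ v)
  have hcorr : radCorr x = 0 := by
    have : ∀ w ∈ radW, x ^^^ runW w x = 0 := fun w hw => by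
      rw [Nat.xor_eq_zero_iff]
      refine C.Phi_inj hx (runW_lt _ hx) ?_
      rw [← C.Phi_run, ex, hfix w hw]
    unfold radCorr
    have hall : ∀ p ∈ radW.zip radCor, x ^^^ runW p.1 x = 0 := fun p hp =>
      this _ (List.of_mem_zip hp).1
    revert hall
    generalize radW.zip radCor = l
    induction l with
    | nil => intro _; rfl
    | cons p l ih =>
      intro hall
      simp only [List.map_cons, List.foldr_cons, hall p (List.mem_cons_self ..), app_zero,
        ih fun q hq => hall q (List.mem_cons_of_mem _ hq), Nat.xor_zero]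
  have hdec : x = app [87040] (app radSel x) ^^^ radCorr x :=
    lin_ext (f := fun x => x) (g := fun x => app [87040] (app radSel x) ^^^ radCorr x)
      (fun _ _ => rfl) (fun a b => by simp only [app_xor, radCorr_xor]; ac_rfl) 20
      (fun i hi => by
        have := List.all_eq_true.1 rad_units i (List.mem_range.2 hi)
        exact beq_iff_eq.1 this) x hx
  rw [hcorr, Nat.xor_zero] at hdec
  have hsel : app radSel x < 2 ^ 1 := app_lt _ rad_sel x
  interval_cases hm : app radSel x
  · exfalso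
    apply hv
    have hx0 : x = 0 := hdec
    rw [hx0, show C.Φ 0 = 0 from comb_zero _] at ex
    have h := congrArg (C.act g') ex
    rw [map_zero, ← C.mul, mul_inv_cancel, C.one] at h
    exact h.symm
  · have hx1 : x = 87040 := hdec
    have h := C.InO_act g' ⟨87040, rad_orbit, rfl⟩
    rw [← hx1, ex, ← C.mul, mul_inv_cancel, C.one] at h
    exact h

theorem badMove {τ : V →+ V} (hτ : ∀ x < 2 ^ 20, τ (C.Φ x) = C.Φ (app datB.T x)) {v : V}
    (hv : τ v = v) (hno : ∀ y, ¬ C.GoodFix τ (v + (y + τ y))) :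
    ∃ g, (∀ u, C.act g (τ u) = τ (C.act g u)) ∧ ∃ y,
      C.act g (C.Φ (app datB.Q badBase)) = v + (y + τ y) := by
  obtain ⟨x, hx, rfl⟩ := C.Phi_surj v
  have hd := datB_ok
  simp only [invOK, Bool.and_eq_true, List.all_eq_true, decide_eq_true_eq, List.mem_range,
    beq_iff_eq, Bool.or_eq_true, bne_iff_ne] at hd
  obtain ⟨⟨⟨⟨⟨⟨⟨⟨⟨⟨hT, hQ⟩, hS⟩, hB⟩, hid⟩, hw⟩, htab⟩, hbad⟩, hsix⟩, hind⟩, hsix20⟩ := hd
  have he : app datB.T x = x := by
    rw [hτ x hx] at hv
    exact C.Phi_inj (app_lt _ hT x) hx hv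
  have hdec : ∀ z < 2 ^ 20, app datB.T z = z →
      C.Φ (app datB.Q (app datB.Sel z)) =
        C.Φ z + (C.Φ (app datB.Bm z) + τ (C.Φ (app datB.Bm z))) := by
    intro z hz hze
    have h : z = app datB.Q (app datB.Sel z) ^^^ (app datB.Bm z ^^^ app datB.T (app datB.Bm z)) ^^^
        app datB.Cm (z ^^^ app datB.T z) :=
      lin_ext (f := fun z => z) (g := fun z => app datB.Q (app datB.Sel z) ^^^
        (app datB.Bm z ^^^ app datB.T (app datB.Bm z)) ^^^ app datB.Cm (z ^^^ app datB.T z))
        (fun _ _ => rfl) (fun a b => by simp only [app_xor]; ac_rfl) 20 hid z hz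
    rw [hze, Nat.xor_self, app_zero, Nat.xor_zero] at h
    conv_rhs => arg 1; rw [h]
    rw [hτ _ (app_lt _ hB z), C.Phi_xor, C.Phi_xor, add_assoc, C.two, add_zero]
  set m := app datB.Sel x with hm
  have hzero : datB.wtab.getD m 0 = 0 := by
    by_contra hne
    obtain ⟨k, hk⟩ := Nat.exists_eq_succ_of_ne_zero hne
    have hspec := (C.invSpec_of_ok datB_ok τ hτ).cases _ hv
    have := htab m (app_lt _ hS x)
    rw [hk] at this
    simp only [Bool.and_eq_true, decide_eq_true_eq, beq_iff_eq] at this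
    refine hno (C.Φ (app datB.Bm x)) ?_
    rw [← hdec x hx he]
    exact C.goodFix_wit datB_ok τ hτ this.1 this.2
  have h := htab m (app_lt _ hS x)
  rw [hzero] at h
  simp only [List.any_eq_true, beq_iff_eq] at h
  obtain ⟨e, he', hem⟩ := h
  have h2 := List.all_eq_true.1 badMoves_ok e he'
  simp only [List.any_eq_true, Bool.and_eq_true, List.all_eq_true, List.mem_range, beq_iff_eq] at h2
  obtain ⟨p, -, ⟨-, hcommU⟩, hsel⟩ := h2
  have hcomm : ∀ z < 2 ^ 20, runW p.2 (app datB.T z) = app datB.T (runW p.2 z) := fun z hz =>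
    lin_ext (f := fun z => runW p.2 (app datB.T z)) (g := fun z => app datB.T (runW p.2 z))
      (fun a b => by simp only [runW_xor, app_xor]) (fun a b => by simp only [runW_xor, app_xor])
      20 hcommU z hz
  refine ⟨elG p.2, fun u => ?_, C.Φ (app datB.Bm x) + C.Φ (app datB.Bm (runW p.2 (app datB.Q badBase))), ?_⟩
  · obtain ⟨z, hz, rfl⟩ := C.Phi_surj u
    rw [hτ z hz, C.Phi_run, C.Phi_run, hτ _ (runW_lt _ hz), hcomm z hz]
  · rw [C.Phi_run]
    set z := runW p.2 (app datB.Q badBase) with hz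
    have hzlt : z < 2 ^ 20 := runW_lt _ badBase_fix.2
    have hzfix : app datB.T z = z := by rw [hz, ← hcomm _ badBase_fix.2, badBase_fix.1]
    have e1 := hdec x hx he
    have e2 := hdec z hzlt hzfix
    rw [hsel, hem, e1] at e2
    rw [map_add]
    calc C.Φ z = C.Φ z + ((C.Φ (app datB.Bm z) + τ (C.Φ (app datB.Bm z))) +
          (C.Φ (app datB.Bm z) + τ (C.Φ (app datB.Bm z)))) := by rw [C.two, add_zero]
      _ = _ := by rw [← add_assoc, ← e2]; abel

theorem sig_cols {τ : V →+ V} (hinv : ∀ v, τ (τ v) = v)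
    (hP : ∀ σ v, τ (C.T σ v) = C.T σ (τ v)) (hD : ∀ a v, τ (C.R a v) = C.R (-a) (τ v)) (x : ℕ) :
    τ (C.Φ x) = C.Φ (app colSig x) := by
  have hinj : Function.Injective τ := fun a b e => by rw [← hinv a, e, hinv]
  have hneg : ∀ (f : Fin 6 → ZMod 3) (a : Cv), dot f (-a) = - dot f a := fun f a => by
    have h := dot_add f (-a) a
    rw [neg_add_cancel] at h
    have h0 : dot f 0 = 0 := by
      have := dot_add f 0 0
      rw [add_zero] at this
      exact left_eq_add.1 this
    rw [h0] at h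
    exact eq_neg_of_add_eq_zero_left h.symm
  have hW : τ C.x0 ∈ C.W (line 0) := fun a => by
    refine ⟨fun h => ?_, fun h => ?_⟩
    · rw [← neg_neg a, ← hD, (C.x0_spec.1 (-a)).1 (by rw [hneg, h, neg_zero])]
    · have h' := (C.x0_spec.1 (-a)).2 (by rw [hneg]; exact neg_ne_zero.2 h)
      have := congrArg τ h'
      rwa [map_add, map_add, map_zero, hD, hD, ← neg_add, neg_neg, neg_neg] at this
  obtain ⟨d, hd, ed⟩ := C.psi_surj _ hW
  have h1 : τ C.x0 = C.x0 := by
    have hfl : C.T flipP (C.psi d) = C.psi d := by rw [← ed, ← hP, C.x0_spec.2.2]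
    rw [C.flip_psi hd] at hfl
    have hd1 : d = 1 := by
      have hz : C.psi (conjC true d ^^^ d) = 0 := by
        rw [psi, comb_xor C.two]
        exact (congrArg (· + C.psi d) hfl).trans (C.two _)
      by_contra hne
      interval_cases d
      · exact C.x0_spec.2.1 (hinj (by rw [ed, map_zero, C.psi_vals.1]))
      · exact hne rfl
      · exact C.psi_ne 1 (by norm_num) (by norm_num) hz
      · exact C.psi_ne 1 (by norm_num) (by norm_num) hz
    rw [ed, hd1, C.psi_vals.2.1]
  have h2 : τ (C.R e0 C.x0) = C.psi 3 := by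
    rw [hD, h1, ← C.psi_vals.2.1, C.R_psi _ (by norm_num), hneg, dot_e0]
    rfl
  refine comb_intertwine C.two C.B τ colSig ?_ x
  have e : colSig = (List.finRange 10).flatMap fun j => [1 * 4 ^ j.val, 3 * 4 ^ j.val] := by
    decide +kernel
  rw [e, B, List.map_flatMap, List.map_flatMap]
  refine List.flatMap_congr fun j _ => ?_
  simp only [List.map_cons, List.map_nil, hP, h1, h2]
  have k1 := C.Phi_slot j (c := 1) (by norm_num)
  have k3 := C.Phi_slot j (c := 3) (by norm_num)
  rw [C.psi_vals.2.1] at k1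
  exact congrArg₂ (fun a b => [a, b]) k1.symm k3.symm

end Ctx

end H61.U6M
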