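/-
The configuration: an elementary abelian group of order 2 ^ 20, normalised by a complement which
contains a copy of U6(2) of index at most two.
-/
import Cfsg.Agent.H61.U6M.Gens
import Cfsg.Agent.H61.U6M.Decomp
import Cfsg.Prelude.Def_Transfer

set_option autoImplicit false
set_option linter.unusedSectionVars false

namespace H61.U6M

open Matrix Cfsg H50

/-- A commutative subgroup as a commutative group. -/
scoped instance commGrp {X : Type*} [Group X] (A : Subgroup X) [IsMulCommutative A] :
    CommGroup ↥A :=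
  { (inferInstance : Group ↥A) with mul_comm := fun a b => IsMulCommutative.is_comm.comm a b }

/-- The configuration. -/
structure Sit {X : Type*} [Group X] (A H : Subgroup X) where
  /-- the complement -/
  L : Subgroup X
  /-- the copy of U6(2) -/
  η : PSU 6 K 2 →* X
  elem : Cfsg.IsElementaryAbelian 2 A
  eqH : H = Subgroup.normalizer (A : Set X)
  cardA : Nat.card A = 2 ^ 20
  le_H : L ≤ H
  meet : A ⊓ L = ⊥
  join : A ⊔ L = H
  inj : Function.Injective η
  mem : ∀ p, η p ∈ L
  norm : ∀ k ∈ L, ∀ p, k * η p * k⁻¹ ∈ η.range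
  sq : ∀ k ∈ L, k * k ∈ η.range
  small : ∀ k ∈ L, (∀ p, k * η p = η p * k) → k = 1
  faith : Subgroup.centralizer (A : Set X) ⊓ H ≤ A

namespace Sit

variable {X : Type*} [Group X] {A H : Subgroup X} (S : Sit A H)

include S

theorem le : A ≤ H := S.eqH ▸ Subgroup.le_normalizer

theorem conj_mem {h a : X} (hh : h ∈ H) (ha : a ∈ A) : h * a * h⁻¹ ∈ A := by
  rw [S.eqH, Subgroup.mem_normalizer_iff] at hh
  exact (hh a).1 ha

theorem exists_split {h : X} (hh : h ∈ H) : ∃ a ∈ A, ∃ k ∈ S.L, a * k = h := by
  have hn : S.L ≤ Subgroup.normalizer (A : Set X) := S.eqH ▸ S.le_H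
  have hh' : h ∈ ((A ⊔ S.L : Subgroup X) : Set X) := by rw [S.join]; exact hh
  rw [Subgroup.coe_mul_of_right_le_normalizer_left A S.L hn] at hh'
  obtain ⟨a, ha, k, hk, e⟩ := hh'
  exact ⟨a, ha, k, hk, e⟩

theorem centL {k : X} (hk : k ∈ S.L) (hc : ∀ a ∈ A, k * a = a * k) : k = 1 := by
  have : k ∈ A := S.faith ⟨Subgroup.mem_centralizer_iff.2 fun a ha => (hc a ha).symm, S.le_H hk⟩
  have h : k ∈ A ⊓ S.L := ⟨this, hk⟩
  rwa [S.meet, Subgroup.mem_bot] at h

/-- The same configuration through an automorphism of U6(2). -/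
def twist (c : MulAut (PSU 6 K 2)) : Sit A H where
  L := S.L
  η := S.η.comp c.toMonoidHom
  elem := S.elem
  eqH := S.eqH
  cardA := S.cardA
  le_H := S.le_H
  meet := S.meet
  join := S.join
  inj := S.inj.comp c.injective
  mem p := S.mem _
  norm k hk p := by
    obtain ⟨q, hq⟩ := S.norm k hk (c p)
    exact ⟨c.symm q, by simpa using hq⟩
  sq k hk := by
    obtain ⟨q, hq⟩ := S.sq k hk
    exact ⟨c.symm q, by simpa using hq⟩
  small k hk h := S.small k hk fun p => by simpa using h (c.symm p)
  faith := S.faith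

/-- The element of a matrix. -/
def el (g : SU 6 K 2) : X := S.η (QuotientGroup.mk g)

theorem el_memH (g : SU 6 K 2) : S.el g ∈ H := S.le_H (S.mem _)

theorem el_mul (g h : SU 6 K 2) : S.el (g * h) = S.el g * S.el h := by
  rw [el, el, el, QuotientGroup.mk_mul, map_mul]

variable [IsMulCommutative A]

/-- Conjugation by an element of the normaliser on the module. -/
def conjV (h : X) (hh : h ∈ H) : Additive ↥A →+ Additive ↥A :=
  AddMonoidHom.mk' (fun v => Additive.ofMul
    ⟨h * (Additive.toMul v : ↥A).1 * h⁻¹, S.conj_mem hh (Additive.toMul v : ↥A).2⟩)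
    fun v w => Additive.toMul.injective (Subtype.ext (by
      show h * ((Additive.toMul v : ↥A).1 * (Additive.toMul w : ↥A).1) * h⁻¹ =
        h * (Additive.toMul v : ↥A).1 * h⁻¹ * (h * (Additive.toMul w : ↥A).1 * h⁻¹)
      group))

theorem conjV_coe (h : X) (hh : h ∈ H) (v : Additive ↥A) :
    (Additive.toMul (S.conjV h hh v) : ↥A).1 = h * (Additive.toMul v : ↥A).1 * h⁻¹ := rfl

theorem conjV_mul (g h : X) (hg : g ∈ H) (hh : h ∈ H) (v : Additive ↥A) :
    S.conjV (g * h) (mul_mem hg hh) v = S.conjV g hg (S.conjV h hh v) := by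
  refine Additive.toMul.injective (Subtype.ext ?_)
  simp only [conjV_coe]
  group

/-- The module. -/
def ctx [Finite X] : Ctx (Additive ↥A) where
  act g := S.conjV (S.el g) (S.el_memH g)
  one v := by
    refine Additive.toMul.injective (Subtype.ext ?_)
    simp [conjV_coe, el]
  mul g h v := by
    refine Additive.toMul.injective (Subtype.ext ?_)
    simp only [conjV_coe, el_mul]
    group
  two v := Additive.toMul.injective (Subtype.ext (by
    have := S.elem.2 _ (Additive.toMul v : ↥A).2
    rwa [pow_two] at this))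
  card := by rw [Nat.card_congr Additive.toMul, S.cardA]
  cen z hz v := by
    refine Additive.toMul.injective (Subtype.ext ?_)
    have : S.el z = 1 := by rw [el, (QuotientGroup.eq_one_iff z).2 hz, map_one]
    simp [conjV_coe, this]
  faith g hg := by
    rw [← QuotientGroup.eq_one_iff]
    refine S.inj ?_
    rw [map_one]
    refine S.centL (S.mem _) fun a ha => ?_
    have := congrArg (fun v => (Additive.toMul v : ↥A).1) (hg (Additive.ofMul ⟨a, ha⟩))
    rw [conjV_coe] at this
    exact mul_inv_eq_iff_eq_mul.1 this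

theorem ctx_act [Finite X] (g : SU 6 K 2) (v : Additive ↥A) :
    (Additive.toMul (S.ctx.act g v) : ↥A).1 = S.el g * (Additive.toMul v : ↥A).1 * (S.el g)⁻¹ :=
  rfl

end Sit

end H61.U6M
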