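/-
Elementary consequences of the configuration: the configuration from the hypotheses, elements of
order three fixing each vector, and unfused vectors.
-/
import Cfsg.Agent.H61.U6M.Setup
import Cfsg.Agent.H61.U6M.Orb
import Cfsg.Agent.H64.SUTransport
import Cfsg.Agent.H72.U6.Frames

set_option autoImplicit false
set_option linter.unusedSectionVars false

namespace H61.U6M

open Matrix Cfsg H50

theorem psu_simple : IsSimpleGroup (PSU 6 K 2) := H50.PSU_isSimple hK (by norm_num) (by norm_num)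

theorem psu_center : Subgroup.center (PSU 6 K 2) = ⊥ := by
  haveI := psu_simple
  refine (Subgroup.Normal.eq_bot_or_eq_top inferInstance).resolve_right fun htop => ?_
  letI : CommGroup (PSU 6 K 2) :=
    { (inferInstance : Group (PSU 6 K 2)) with
      mul_comm := fun a b => Subgroup.mem_center_iff.1 (by rw [htop]; trivial) a }
  have h := (IsSimpleGroup.prime_card (α := PSU 6 K 2))
  rw [H72.U6R.card_psu hK] at h
  exact absurd h (by norm_num [Nat.prime_mul_iff])

theorem exists_psu_equiv (F : Type*) [Field F] [Fintype F] (hF : Fintype.card F = 4) :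
    Nonempty (PSU 6 K 2 ≃* PSU 6 F 2) := by
  classical
  haveI : Fact (Nat.Prime 2) := ⟨Nat.prime_two⟩
  obtain ⟨ψ⟩ : Nonempty (K ≃+* F) := by
    obtain ⟨p, hp⟩ := CharP.exists F
    haveI := hp
    obtain ⟨n, hpp, hn⟩ := FiniteField.card F p
    have hp2 : p = 2 := by
      rw [hF] at hn
      exact (Nat.prime_dvd_prime_iff_eq hpp Nat.prime_two).1
        (hpp.dvd_of_dvd_pow (show p ∣ 2 ^ 2 by rw [show (2 : ℕ) ^ 2 = 4 from rfl, hn]; exact dvd_pow_self p n.pos.ne'))
    subst hp2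
    haveI : CharP K 2 := CharTwo.of_one_ne_zero_of_two_eq_zero one_ne_zero (by decide +kernel)
    letI := ZMod.algebra F 2
    letI := ZMod.algebra K 2
    exact ⟨FiniteField.ringEquivOfCardEq (by rw [hK, hF]; norm_num)⟩
  let e := H64.suCongr 6 2 ψ
  refine ⟨QuotientGroup.congr _ _ e ?_⟩
  ext x
  rw [Subgroup.mem_map, Subgroup.mem_center_iff]
  constructor
  · rintro ⟨z, hz, rfl⟩ g
    obtain ⟨k, rfl⟩ := e.surjective g
    show e k * e z = e z * e k
    rw [← map_mul, ← map_mul, Subgroup.mem_center_iff.mp hz k]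
  · intro hx
    obtain ⟨z, rfl⟩ := e.surjective x
    refine ⟨z, Subgroup.mem_center_iff.mpr fun k => e.injective ?_, rfl⟩
    rw [map_mul, map_mul]; exact hx (e k)

theorem elementary_of_minimal {X : Type*} [Group X] [Finite X] {A H : Subgroup X} (hAH : A ≤ H)
    (hn : ∀ h ∈ H, ∀ a ∈ A, h * a * h⁻¹ ∈ A) (hA : Nat.card A = 2 ^ 20)
    (hmin : ∀ B : Subgroup X, B ≤ A → (∀ h ∈ H, ∀ b ∈ B, h * b * h⁻¹ ∈ B) → B = ⊥ ∨ B = A) :
    Cfsg.IsElementaryAbelian 2 A := by
  haveI : Fact (Nat.Prime 2) := ⟨Nat.prime_two⟩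
  have hp : IsPGroup 2 A := IsPGroup.of_card hA
  haveI : Nontrivial A := Finite.one_lt_card_iff_nontrivial.1 (by rw [hA]; norm_num)
  set Z : Subgroup X := A ⊓ Subgroup.centralizer (A : Set X) with hZ
  have hZA : Z = A := by
    refine (hmin Z inf_le_left fun h hh b hb => ⟨hn h hh b hb.1, ?_⟩).resolve_left ?_
    · refine Subgroup.mem_centralizer_iff.2 fun a ha => ?_
      have e := Subgroup.mem_centralizer_iff.1 hb.2 (h⁻¹ * a * h)
        (by simpa using hn h⁻¹ (H.inv_mem hh) a ha)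
      calc a * (h * b * h⁻¹) = h * (h⁻¹ * a * h * b) * h⁻¹ := by group
        _ = h * (b * (h⁻¹ * a * h)) * h⁻¹ := by rw [e]
        _ = h * b * h⁻¹ * a := by group
    · intro hbot
      haveI := hp.center_nontrivial
      obtain ⟨z, hz⟩ := exists_ne (1 : Subgroup.center A)
      have hmem : ((z : A) : X) ∈ Z := ⟨(z : A).2, Subgroup.mem_centralizer_iff.2 fun a ha =>
        congrArg Subtype.val (Subgroup.mem_center_iff.1 z.2 ⟨a, ha⟩)⟩
      rw [hbot, Subgroup.mem_bot] at hmem
      exact hz (Subtype.ext (Subtype.ext hmem))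
  have hcomm : ∀ a ∈ A, ∀ b ∈ A, a * b = b * a := fun a ha b hb => by
    have hb' : b ∈ Z := by rw [hZA]; exact hb
    exact Subgroup.mem_centralizer_iff.1 hb'.2 a ha
  let B : Subgroup X :=
    { carrier := {a | a ∈ A ∧ a * a = 1}
      one_mem' := ⟨one_mem _, one_mul 1⟩
      mul_mem' := fun {a b} ha hb => ⟨mul_mem ha.1 hb.1, by
        calc a * b * (a * b) = a * (b * a) * b := by group
          _ = (a * a) * (b * b) := by rw [← hcomm a ha.1 b hb.1]; group
          _ = 1 := by rw [ha.2, hb.2, one_mul]⟩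
      inv_mem' := fun {a} ha => ⟨inv_mem ha.1, by rw [← _root_.mul_inv_rev, ha.2, inv_one]⟩ }
  have hBA : B = A := by
    refine (hmin B (fun a ha => ha.1) fun h hh b hb => ⟨hn h hh b hb.1, ?_⟩).resolve_left ?_
    · calc h * b * h⁻¹ * (h * b * h⁻¹) = h * (b * b) * h⁻¹ := by group
        _ = 1 := by rw [hb.2, mul_one, mul_inv_cancel]
    · intro hbot
      obtain ⟨x, hx⟩ := exists_prime_orderOf_dvd_card' 2 (G := A) (by rw [hA]; norm_num)
      have h2 : (x : X) * x = 1 := by
        have := congrArg Subtype.val (pow_orderOf_eq_one x)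
        rw [hx, pow_two] at this
        exact this
      have hmem : (x : X) ∈ B := ⟨x.2, h2⟩
      rw [hbot, Subgroup.mem_bot] at hmem
      rw [show x = 1 from Subtype.ext hmem, orderOf_one] at hx
      norm_num at hx
  refine ⟨⟨⟨fun a b => Subtype.ext (hcomm a a.2 b b.2)⟩⟩, fun a ha => ?_⟩
  have : a ∈ B := by rw [hBA]; exact ha
  rw [pow_two]; exact this.2

theorem faith_of_min {X : Type*} [Group X] [Finite X] {A H L : Subgroup X}
    (η : PSU 6 K 2 →* X) (hηL : ∀ p, η p ∈ L) (hLH : L ≤ H)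
    (hn : ∀ h ∈ H, ∀ a ∈ A, h * a * h⁻¹ ∈ A) (hel : Cfsg.IsElementaryAbelian 2 A)
    (hsplit : ∀ h ∈ H, ∃ a ∈ A, ∃ k ∈ L, a * k = h)
    (k1 : X) (hk1 : k1 ∈ L) (hcases : ∀ k ∈ L, k ∈ η.range ∨ k1⁻¹ * k ∈ η.range)
    (hk1sq : k1 * k1 ∈ η.range)
    (hnorm : ∀ k ∈ L, ∀ p, k * η p * k⁻¹ ∈ η.range) (hinj : Function.Injective η)
    (hsmall : ∀ k ∈ L, (∀ p, k * η p = η p * k) → k = 1)
    (hA : Nat.card A = 2 ^ 20)
    (hmin : ∀ B : Subgroup X, B ≤ A → (∀ h ∈ H, ∀ b ∈ B, h * b * h⁻¹ ∈ B) → B = ⊥ ∨ B = A) :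
    Subgroup.centralizer (A : Set X) ⊓ H ≤ A := by
  haveI := psu_simple
  have hcomm : ∀ a ∈ A, ∀ b ∈ A, a * b = b * a := fun a ha b hb =>
    congrArg Subtype.val (hel.1.is_comm.comm (⟨a, ha⟩ : A) ⟨b, hb⟩)
  have hsq : ∀ a ∈ A, a * a = 1 := fun a ha => by rw [← pow_two]; exact hel.2 a ha
  set N := (Subgroup.centralizer (A : Set X)).comap η with hN
  haveI : N.Normal := ⟨fun p hp q => by
    refine Subgroup.mem_centralizer_iff.2 fun a ha => ?_
    have hqa : η q⁻¹ * a * (η q⁻¹)⁻¹ ∈ A := hn _ (hLH (hηL _)) a ha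
    have e : (η q⁻¹ * a * (η q⁻¹)⁻¹) * η p = η p * (η q⁻¹ * a * (η q⁻¹)⁻¹) :=
      Subgroup.mem_centralizer_iff.1 hp _ hqa
    simp only [map_mul, map_inv, inv_inv] at e ⊢
    calc a * (η q * η p * (η q)⁻¹) = η q * ((η q)⁻¹ * a * η q * η p) * (η q)⁻¹ := by group
      _ = η q * (η p * ((η q)⁻¹ * a * η q)) * (η q)⁻¹ := by rw [e]
      _ = _ := by group⟩
  have hNbot : N = ⊥ := by
    refine (Subgroup.Normal.eq_bot_or_eq_top inferInstance).resolve_right fun htop => ?_
    have hη : ∀ p, ∀ a ∈ A, a * η p = η p * a := fun p a ha =>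
      Subgroup.mem_centralizer_iff.1 (show η p ∈ Subgroup.centralizer (A : Set X) from
        show p ∈ N by rw [htop]; trivial) a ha
    let F : Subgroup X := A ⊓ Subgroup.centralizer {k1}
    have hFA : F = A := by
      refine (hmin F inf_le_left fun h hh b hb => ⟨hn h hh b hb.1, ?_⟩).resolve_left ?_
      · obtain ⟨a, ha, k, hk, rfl⟩ := hsplit h hh
        have hk1b : k1 * b = b * k1 := (Subgroup.mem_centralizer_singleton_iff.1 hb.2).symm
        have hkb : k * b * k⁻¹ = b := by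
          rcases hcases k hk with ⟨p, rfl⟩ | ⟨p, hp⟩
          · rw [← hη p b hb.1, mul_inv_cancel_right]
          · rw [show k = k1 * η p by rw [hp, mul_inv_cancel_left]]
            calc k1 * η p * b * (k1 * η p)⁻¹ = k1 * (η p * b) * (η p)⁻¹ * k1⁻¹ := by group
              _ = k1 * b * k1⁻¹ := by rw [← hη p b hb.1]; group
              _ = b := by rw [hk1b, mul_inv_cancel_right]
        have : a * k * b * (a * k)⁻¹ = b := by
          rw [show a * k * b * (a * k)⁻¹ = a * (k * b * k⁻¹) * a⁻¹ by group, hkb,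
            hcomm a ha b hb.1, mul_inv_cancel_right]
        rw [this]; exact hb.2
      · intro hbot
        haveI : Nontrivial A := Finite.one_lt_card_iff_nontrivial.1 (by rw [hA]; norm_num)
        obtain ⟨⟨a, ha⟩, hne⟩ := exists_ne (1 : A)
        have hca : k1 * a * k1⁻¹ ∈ A := hn _ (hLH hk1) a ha
        obtain ⟨p, hp⟩ := hk1sq
        have hperiod : k1 * (k1 * a * k1⁻¹) * k1⁻¹ = a := by
          rw [show k1 * (k1 * a * k1⁻¹) * k1⁻¹ = k1 * k1 * a * (k1 * k1)⁻¹ by group, ← hp,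
            ← hη p a ha, mul_inv_cancel_right]
        have hb : a * (k1 * a * k1⁻¹) ∈ F := by
          refine ⟨mul_mem ha hca, Subgroup.mem_centralizer_singleton_iff.2 ?_⟩
          refine (mul_inv_eq_iff_eq_mul.1 (?_ : k1 * (a * (k1 * a * k1⁻¹)) * k1⁻¹ =
            a * (k1 * a * k1⁻¹))).symm
          calc k1 * (a * (k1 * a * k1⁻¹)) * k1⁻¹
              = (k1 * a * k1⁻¹) * (k1 * (k1 * a * k1⁻¹) * k1⁻¹) := by group
            _ = _ := by rw [hperiod, hcomm _ hca a ha]
        rw [hbot, Subgroup.mem_bot] at hb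
        have hfix : k1 * a * k1⁻¹ = a := by
          calc k1 * a * k1⁻¹ = (a * a) * (k1 * a * k1⁻¹) := by rw [hsq a ha, one_mul]
            _ = a := by rw [mul_assoc, hb, mul_one]
        have hmem : a ∈ F := ⟨ha, Subgroup.mem_centralizer_singleton_iff.2
          (mul_inv_eq_iff_eq_mul.1 hfix).symm⟩
        rw [hbot, Subgroup.mem_bot] at hmem
        exact hne (Subtype.ext hmem)
    have hcen : ∀ h ∈ H, ∀ b ∈ A, h * b * h⁻¹ = b := by
      intro h hh b hb
      have hb' : b ∈ F := by rw [hFA]; exact hb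
      have hk1b : k1 * b = b * k1 := (Subgroup.mem_centralizer_singleton_iff.1 hb'.2).symm
      obtain ⟨a, ha, k, hk, rfl⟩ := hsplit h hh
      have hkb : k * b * k⁻¹ = b := by
        rcases hcases k hk with ⟨p, rfl⟩ | ⟨p, hp⟩
        · rw [← hη p b hb, mul_inv_cancel_right]
        · rw [show k = k1 * η p by rw [hp, mul_inv_cancel_left]]
          calc k1 * η p * b * (k1 * η p)⁻¹ = k1 * (η p * b) * (η p)⁻¹ * k1⁻¹ := by group
            _ = k1 * b * k1⁻¹ := by rw [← hη p b hb]; group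
            _ = b := by rw [hk1b, mul_inv_cancel_right]
      rw [show a * k * b * (a * k)⁻¹ = a * (k * b * k⁻¹) * a⁻¹ by group, hkb, hcomm a ha b hb,
        mul_inv_cancel_right]
    haveI : Nontrivial A := Finite.one_lt_card_iff_nontrivial.1 (by rw [hA]; norm_num)
    obtain ⟨⟨a, ha⟩, hne⟩ := exists_ne (1 : A)
    rcases hmin (Subgroup.zpowers a) (by rwa [Subgroup.zpowers_le]) (fun h hh b hb => by
      have hbA : b ∈ A := (Subgroup.zpowers_le.2 ha) hb
      rw [hcen h hh b hbA]; exact hb) with e | e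
    · rw [Subgroup.zpowers_eq_bot] at e
      exact hne (Subtype.ext e)
    · have hc := congrArg (fun B : Subgroup X => Nat.card B) e
      rw [Nat.card_zpowers, hA] at hc
      have := orderOf_le_of_pow_eq_one (by norm_num : 0 < 2) (hel.2 a ha)
      omega
  intro h hh
  obtain ⟨a, ha, k, hk, rfl⟩ := hsplit h hh.2
  have hkc : k ∈ Subgroup.centralizer (A : Set X) := by
    refine Subgroup.mem_centralizer_iff.2 fun b hb => ?_
    have e := Subgroup.mem_centralizer_iff.1 hh.1 b hb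
    have : a * (b * k) = a * (k * b) := by
      rw [← mul_assoc, hcomm a ha b hb, mul_assoc, e, ← mul_assoc]
    exact mul_left_cancel this
  have : k = 1 := by
    refine hsmall k hk fun p => ?_
    obtain ⟨q, hq⟩ := hnorm k hk p
    -- the commutator lies in the kernel
    have hc : ∀ b ∈ A, (η p⁻¹ * η q) * b = b * (η p⁻¹ * η q) := by
      intro b hb
      have hk' := Subgroup.mem_centralizer_iff.1 hkc
      have e1 : η p * b * (η p)⁻¹ ∈ A := hn _ (hLH (hηL p)) b hb
      have e2 : k⁻¹ * b * k = b := by rw [mul_assoc, hk' b hb, inv_mul_cancel_left]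
      have e3 : η q * b * (η q)⁻¹ = η p * b * (η p)⁻¹ := by
        rw [hq, show k * η p * k⁻¹ * b * (k * η p * k⁻¹)⁻¹ = k * (η p * (k⁻¹ * b * k) * (η p)⁻¹) * k⁻¹
          by group, e2, ← hk' _ e1, mul_inv_cancel_right]
      rw [map_inv]
      calc (η p)⁻¹ * η q * b = (η p)⁻¹ * (η q * b * (η q)⁻¹) * η q := by group
        _ = b * ((η p)⁻¹ * η q) := by rw [e3]; group
    have hmem : p⁻¹ * q ∈ N := Subgroup.mem_centralizer_iff.2 fun b hb => by
      rw [map_mul]; exact (hc b hb).symm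
    rw [hNbot, Subgroup.mem_bot, inv_mul_eq_one] at hmem
    subst hmem
    exact (mul_inv_eq_iff_eq_mul.1 hq.symm)
  rw [this, mul_one]; exact ha

theorem D_inj_aux : ∀ a b : ZMod 3,
    (∀ σ ∈ [Equiv.swap (0 : Fin 6) 2, Equiv.swap (1 : Fin 6) 2],
      permA σ ![a, b, 0, 0, 0] = ![a, b, 0, 0, 0]) → a = 0 ∧ b = 0 := by
  decide +kernel

namespace Sit

variable {X : Type*} [Group X] [Finite X] {A H : Subgroup X} [IsMulCommutative A] (St : Sit A H)
include St

theorem exists_three {a : X} (ha : a ∈ A) : ∃ u ∈ H, orderOf u = 3 ∧ u * a = a * u := by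
  obtain ⟨g, h3, ⟨v, hv⟩, hfix⟩ := St.ctx.fixed3_all (Additive.ofMul ⟨a, ha⟩)
  refine ⟨St.el g, St.el_memH g, ?_, ?_⟩
  · haveI : Fact (Nat.Prime 3) := ⟨Nat.prime_three⟩
    refine orderOf_eq_prime ?_ fun e => hv ?_
    · refine St.centL (pow_mem (St.mem _) 3) fun b hb => ?_
      have := congrArg (fun v => (Additive.toMul v : ↥A).1) (h3 (Additive.ofMul ⟨b, hb⟩))
      simp only [ctx_act, toMul_ofMul] at this
      refine mul_inv_eq_iff_eq_mul.1 ?_
      rw [show St.el g ^ 3 * b * (St.el g ^ 3)⁻¹ =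
        St.el g * (St.el g * (St.el g * b * (St.el g)⁻¹) * (St.el g)⁻¹) * (St.el g)⁻¹ by
          rw [show (St.el g) ^ 3 = St.el g * St.el g * St.el g by rw [pow_succ, pow_two]]; group]
      exact this
    · refine Additive.toMul.injective (Subtype.ext ?_)
      rw [ctx_act, e, one_mul, inv_one, mul_one]
  · have := congrArg (fun v => (Additive.toMul v : ↥A).1) hfix
    simp only [ctx_act, toMul_ofMul] at this
    exact mul_inv_eq_iff_eq_mul.1 this

theorem exists_E : ∃ E : Subgroup X, E ≤ H ∧ Cfsg.IsElementaryAbelian 3 E ∧ Nat.card E = 9 := by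
  let f : Multiplicative (ZMod 3 × ZMod 3) →* X := MonoidHom.mk'
    (fun z => St.el (D ![z.toAdd.1, z.toAdd.2, 0, 0, 0])) fun y z => by
      rw [← el_mul, ← D_add]
      congr 2
      funext i
      fin_cases i <;> simp
  have hf : Function.Injective f := by
    rw [injective_iff_map_eq_one]
    intro z hz
    have h1 : St.η (QuotientGroup.mk (D ![z.toAdd.1, z.toAdd.2, 0, 0, 0])) = St.η 1 := by
      rw [map_one]; exact hz
    have hc := (QuotientGroup.eq_one_iff _).1 (St.inj h1)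
    have hp : ∀ σ : Equiv.Perm (Fin 6),
        permA σ ![z.toAdd.1, z.toAdd.2, 0, 0, 0] = ![z.toAdd.1, z.toAdd.2, 0, 0, 0] := by
      intro σ
      set a : Cv := ![z.toAdd.1, z.toAdd.2, 0, 0, 0]
      have e := Subgroup.mem_center_iff.1 hc (P σ)
      rw [P_D] at e
      have e' : D (permA σ a) = D a := mul_right_cancel e
      funext i
      have := congrArg (fun g : SU 6 K 2 => (suMat g *ᵥ fun _ => (1 : K)) i.castSucc) e'
      simp only [D_apply, mul_one] at this
      have hw : ∀ x y : ZMod 3, wp x = wp y → x = y := by decide +kernel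
      simpa [H61.U6M.ext] using hw _ _ this
    obtain ⟨e1, e2⟩ := D_inj_aux z.toAdd.1 z.toAdd.2 fun σ _ => hp σ
    exact Multiplicative.toAdd.injective (Prod.ext e1 e2)
  refine ⟨f.range, ?_, ⟨⟨⟨?_⟩⟩, ?_⟩, ?_⟩
  · rintro _ ⟨z, rfl⟩; exact St.el_memH _
  · rintro ⟨_, y, rfl⟩ ⟨_, z, rfl⟩
    exact Subtype.ext (show f y * f z = f z * f y by rw [← map_mul, ← map_mul, mul_comm])
  · rintro _ ⟨z, rfl⟩
    have h3 : ∀ w : Multiplicative (ZMod 3 × ZMod 3), w ^ 3 = 1 := by decide +kernel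
    rw [← map_pow, h3, map_one]
  · rw [← Nat.card_congr (MonoidHom.ofInjective hf).toEquiv, Nat.card_eq_fintype_card]
    rfl

/-- Vectors in and out of the small orbit are not conjugate. -/
theorem not_conj {b0 b1 : ↥A} (h0 : St.ctx.InO (Additive.ofMul b0))
    (h1 : ¬ St.ctx.InO (Additive.ofMul b1)) : ∀ z ∈ H, z * (b0 : X) * z⁻¹ ≠ b1 := by
  intro z hz e
  obtain ⟨a, ha, k, hk, rfl⟩ := St.exists_split hz
  have hk0 : k * (b0 : X) * k⁻¹ = b1 := by
    have hm : k * (b0 : X) * k⁻¹ ∈ A := St.conj_mem (St.le_H hk) b0.2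
    have hc : a * (k * (b0 : X) * k⁻¹) = (k * (b0 : X) * k⁻¹) * a :=
      congrArg Subtype.val (IsMulCommutative.is_comm.comm (⟨a, ha⟩ : A) ⟨_, hm⟩)
    rw [← e, show a * k * (b0 : X) * (a * k)⁻¹ = a * (k * (b0 : X) * k⁻¹) * a⁻¹ by group, hc,
      mul_inv_cancel_right]
  refine h1 ?_
  set φ := St.conjV k (St.le_H hk)
  have hφ : φ (Additive.ofMul b0) = Additive.ofMul b1 :=
    Additive.toMul.injective (Subtype.ext (by rw [conjV_coe]; exact hk0))
  have himg : St.ctx.orb (Additive.ofMul b1) = φ '' St.ctx.orb (Additive.ofMul b0) := by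
    ext w
    constructor
    · rintro ⟨g, rfl⟩
      obtain ⟨q, hq⟩ := St.norm k⁻¹ (inv_mem hk) (QuotientGroup.mk g)
      obtain ⟨g', rfl⟩ := QuotientGroup.mk_surjective q
      refine ⟨St.ctx.act g' (Additive.ofMul b0), ⟨g', rfl⟩,
        Additive.toMul.injective (Subtype.ext ?_)⟩
      show k * (St.el g' * (b0 : X) * (St.el g')⁻¹) * k⁻¹ = St.el g * (b1 : X) * (St.el g)⁻¹
      rw [← hk0, show St.el g' = k⁻¹ * St.el g * k from hq.trans (by rw [inv_inv]; rfl)]
      group
    · rintro ⟨_, ⟨g, rfl⟩, rfl⟩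
      obtain ⟨q, hq⟩ := St.norm k hk (QuotientGroup.mk g)
      obtain ⟨g', rfl⟩ := QuotientGroup.mk_surjective q
      refine ⟨g', Additive.toMul.injective (Subtype.ext ?_)⟩
      show St.el g' * (b1 : X) * (St.el g')⁻¹ = k * (St.el g * (b0 : X) * (St.el g)⁻¹) * k⁻¹
      rw [← hk0, show St.el g' = k * St.el g * k⁻¹ from hq]
      group
  have hinj : Function.Injective φ := fun v w e => by
    have := congrArg (fun v => (Additive.toMul v : ↥A).1) e
    simp only [φ, conjV_coe] at this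
    exact Additive.toMul.injective (Subtype.ext (mul_left_cancel (mul_right_cancel this)))
  have hcard : (St.ctx.orb (Additive.ofMul b1)).ncard = 891 := by
    rw [himg, Set.ncard_image_of_injective _ hinj, St.ctx.orb_card h0]
  refine St.ctx.InO_of_odd ?_ (by rw [hcard]; decide)
  intro hz0
  have : St.ctx.orb (Additive.ofMul b1) = {0} := by
    rw [hz0]; ext w; simp [Ctx.orb, eq_comm]
  rw [this, Set.ncard_singleton] at hcard
  norm_num at hcard

end Sit

end H61.U6M
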